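import Cfsg.Agent.Omega.NoFF.Lines
import Cfsg.Agent.ZN.Defs
import Cfsg.Agent.Mrg.Omega.NO3b.EZeroBase
import Cfsg.Agent.Omega.NO3S.PointTI

section


/-!
# Case NO-3' : `J(S)` is not contained in the kernel on the lines (THEOREM J*, #12949, #13136)

`Geo S Z C F` (all lines on the point `Z` are contained in all Sylow subgroups of `C`), `N` a normal
subgroup of `C` which normalises all `V_P`, `P ∈ F`, no `V_P` has an over-offender in `S`.
If there is a critical pair, then `S` contains an elementary abelian subgroup of maximal order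
(among all elementary abelian 2-subgroups of `G`) which is not contained in `N`.
-/

set_option autoImplicit false

namespace Cfsg.Agent.Omega.NoFF.ThmJ

open Subgroup Cfsg Cfsg.Agent Cfsg.Agent.Omega.NoFF.Basic Cfsg.Agent.Omega.NoFF.Lines
open Cfsg.Agent.ZN (jj)
open scoped Pointwise

variable {G : Type*} [Group G]

/-- Elementary abelian 2-subgroup. -/
structure EA (A : Subgroup G) : Prop where
  comm : A ≤ centralizer (A : Set G)
  sq : ∀ a ∈ A, a ^ 2 = 1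

/-- Elementary abelian 2-subgroup of maximal order. -/
structure MaxEA (A : Subgroup G) : Prop extends EA A where
  max : ∀ B : Subgroup G, EA B → Nat.card B ≤ Nat.card A

/-- No over-offender on `V` in `S`. -/
def NoOver (S V : Subgroup G) : Prop :=
  ∀ A : Subgroup G, A ≤ S → EA A →
    Nat.card A * Nat.card (V ⊓ centralizer (A : Set G) : Subgroup G) ≤
      Nat.card V * Nat.card (A ⊓ centralizer (V : Set G) : Subgroup G)

theorem EA.conj {A : Subgroup G} (h : EA A) (g : G) : EA (MulAut.conj g • A) :=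
  ⟨conj_le_centralizer h.comm, Geo.conj_sq h.sq g⟩

theorem EA.mono {A B : Subgroup G} (h : EA A) (hB : B ≤ A) : EA B :=
  ⟨comm_mono h.comm hB hB, fun b hb => h.sq b (hB hb)⟩

theorem EA.sup {A B : Subgroup G} (hA : EA A) (hB : EA B) (h : A ≤ centralizer (B : Set G)) : EA (A ⊔ B) := by
  have hc : A ⊔ B ≤ centralizer ((A ⊔ B : Subgroup G) : Set G) := by
    refine sup_le (comm_symm (sup_le hA.comm (comm_symm h))) (comm_symm (sup_le h hB.comm))
  refine ⟨hc, ?_⟩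
  exact Geo.sq_of_comm hc (B := fun b : Bool => if b then A else B)
    (fun b => by cases b <;> simp) (sup_le (le_iSup_of_le true (by simp)) (le_iSup_of_le false (by simp)))
    (fun b => by cases b <;> simp <;> [exact fun x hx => hB.sq x hx; exact fun x hx => hA.sq x hx])

theorem card_conj (g : G) (A : Subgroup G) : Nat.card (MulAut.conj g • A : Subgroup G) = Nat.card A :=
  Nat.card_congr (Subgroup.equivSMul (MulAut.conj g) A).toEquiv.symm

theorem MaxEA.conj {A : Subgroup G} (h : MaxEA A) (g : G) : MaxEA (MulAut.conj g • A) :=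
  ⟨h.toEA.conj g, fun B hB => by rw [card_conj]; exact h.max B hB⟩

theorem EA.isPGroup {A : Subgroup G} (h : EA A) : IsPGroup 2 A := fun a =>
  ⟨1, Subtype.ext (by simpa using h.sq a a.2)⟩

theorem card_mul_relIndex {H K : Subgroup G} (h : H ≤ K) :
    Nat.card H * H.relIndex K = Nat.card K := by
  rw [Subgroup.relIndex, ← Nat.card_congr (Subgroup.subgroupOfEquivOfLe h).toEquiv]
  exact Subgroup.card_mul_index _

/-- `|K H| |K ∩ H| = |K| |H|` -/
theorem card_sup_mul {K H : Subgroup G} (h' : H ≤ normalizer (K : Set G)) :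
    Nat.card (K ⊔ H : Subgroup G) * Nat.card (K ⊓ H : Subgroup G) = Nat.card K * Nat.card H := by
  have hKn : (K.subgroupOf (K ⊔ H)).Normal :=
    normal_subgroupOf_of_le_normalizer (sup_le le_normalizer h')
  have h1 := relIndex_sup_left (H.subgroupOf (K ⊔ H)) (K.subgroupOf (K ⊔ H))
  rw [← Subgroup.subgroupOf_sup le_sup_left le_sup_right, Subgroup.subgroupOf_self,
    Subgroup.relIndex_subgroupOf le_sup_right, relIndex_top_right] at h1
  have h2 : Nat.card K * K.relIndex H = Nat.card (K ⊔ H : Subgroup G) := by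
    rw [← h1]
    exact card_mul_relIndex le_sup_left
  have h3 : Nat.card (K ⊓ H : Subgroup G) * K.relIndex H = Nat.card H := by
    rw [← inf_relIndex_right]
    exact card_mul_relIndex inf_le_right
  rw [← h2, ← h3]
  ring

theorem MaxEA.of_card {A B : Subgroup G} (h : MaxEA A) (hB : EA B) (hc : Nat.card A ≤ Nat.card B) : MaxEA B :=
  ⟨hB, fun C hC => (h.max C hC).trans hc⟩

variable [Finite G]

/-- A group of involutions centralising `A` lies in `A`. -/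
theorem MaxEA.le_of_centralizer {A B : Subgroup G} (h : MaxEA A) (hB : EA B)
    (hc : B ≤ centralizer (A : Set G)) : B ≤ A := by
  have h1 : EA (A ⊔ B) := h.toEA.sup hB (comm_symm hc)
  have h2 := h.max _ h1
  have h3 : A = A ⊔ B := Subgroup.eq_of_le_of_card_ge le_sup_left h2
  rw [h3]
  exact le_sup_right

variable (G) in
theorem exists_maxEA : ∃ A : Subgroup G, MaxEA A := by
  classical
  obtain ⟨A, hA, hmax⟩ := (Set.toFinite {A : Subgroup G | EA A}).exists_maximalFor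
    (fun A : Subgroup G => Nat.card A) _ ⟨⊥, ⟨bot_le, fun a ha => by simp [mem_bot.1 ha]⟩⟩
  refine ⟨A, hA, fun B hB => ?_⟩
  rcases le_total (Nat.card B) (Nat.card A) with h | h
  · exact h
  · exact hmax hB h

omit [Finite G] in
theorem inf_centralizer_conj (g : G) (A B : Subgroup G) :
    (MulAut.conj g • A) ⊓ centralizer ((MulAut.conj g • B : Subgroup G) : Set G) =
      MulAut.conj g • (A ⊓ centralizer (B : Set G)) := by
  ext x
  rw [mem_inf, mem_conj, mem_conj, mem_inf, mem_centralizer_iff, mem_centralizer_iff]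
  refine and_congr_right fun _ => ⟨fun h b hb => ?_, fun h b hb => ?_⟩
  · have h1 : g * b * g⁻¹ ∈ MulAut.conj g • B := by
      rw [mem_conj]; simpa [mul_assoc] using hb
    have h2 := congrArg (fun t => g⁻¹ * t * g) (h _ h1)
    simpa [mul_assoc] using h2
  · have hb' : b ∈ MulAut.conj g • B := hb
    rw [mem_conj] at hb'
    have h2 := congrArg (fun t => g * t * g⁻¹) (h _ hb')
    simpa [mul_assoc] using h2

omit [Finite G] in
/-- no over-offender for conjugates -/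
theorem NoOver.conj {S V : Subgroup G} (h : NoOver S V) {g : G} {A : Subgroup G}
    (hA : A ≤ MulAut.conj g • S) (hE : EA A) :
    Nat.card A * Nat.card ((MulAut.conj g • V) ⊓ centralizer (A : Set G) : Subgroup G) ≤
      Nat.card (MulAut.conj g • V : Subgroup G) *
        Nat.card (A ⊓ centralizer ((MulAut.conj g • V : Subgroup G) : Set G) : Subgroup G) := by
  obtain ⟨B, rfl⟩ : ∃ B : Subgroup G, A = MulAut.conj g • B :=
    ⟨MulAut.conj g⁻¹ • A, by rw [conj_conj, mul_inv_cancel, map_one, one_smul]⟩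
  have h2 := h _ (conj_le_iff.1 hA) (by
    have := hE.conj g⁻¹
    rwa [conj_conj, inv_mul_cancel, map_one, one_smul] at this)
  rw [inf_centralizer_conj, inf_centralizer_conj, card_conj, card_conj, card_conj, card_conj]
  exact h2

/-- **Replacement**: `C_A(V) V` is again of maximal order. -/
theorem replace {A V : Subgroup G} (hA : MaxEA A) (hV : EA V)
    (h : Nat.card A * Nat.card (V ⊓ centralizer (A : Set G) : Subgroup G) ≤
      Nat.card V * Nat.card (A ⊓ centralizer (V : Set G) : Subgroup G)) :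
    MaxEA ((A ⊓ centralizer (V : Set G)) ⊔ V) := by
  have hE : EA ((A ⊓ centralizer (V : Set G)) ⊔ V) :=
    (hA.toEA.mono inf_le_left).sup hV inf_le_right
  refine hA.of_card hE ?_
  set B : Subgroup G := A ⊓ centralizer (V : Set G) with hB
  have h1 : Nat.card B * Nat.card V = Nat.card (B ⊔ V : Subgroup G) * Nat.card (B ⊓ V : Subgroup G) := by
    have hn : V ≤ normalizer (B : Set G) :=
      (comm_symm (inf_le_right : B ≤ centralizer (V : Set G))).trans (centralizer_le_normalizer _)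
    exact (card_sup_mul hn).symm
  have h4 : Nat.card (B ⊓ V : Subgroup G) ≤ Nat.card (V ⊓ centralizer (A : Set G) : Subgroup G) := by
    refine Subgroup.card_le_of_le ?_
    exact le_inf inf_le_right ((inf_le_left.trans inf_le_left).trans hA.comm)
  have h5 : Nat.card A * Nat.card (B ⊓ V : Subgroup G) ≤
      Nat.card (B ⊔ V : Subgroup G) * Nat.card (B ⊓ V : Subgroup G) := by
    rw [← h1, mul_comm (Nat.card B)]
    exact (Nat.mul_le_mul_left _ h4).trans h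
  exact Nat.le_of_mul_le_mul_right h5 Nat.card_pos


/-! ### The setting -/

/-- The hypotheses on the normal subgroup `N` of `C`. -/
structure Ker (Z C N : Subgroup G) (F : Set (Subgroup G)) : Prop where
  le : N ≤ C
  nor : C ≤ normalizer (N : Set G)
  line : ∀ P ∈ F, N ≤ normalizer (V Z P : Set G)

section

variable {Z C N : Subgroup G} {F : Set (Subgroup G)}

omit [Finite G] in
theorem conj_N (K : Ker Z C N F) {x c : G} (hc : c ∈ C) : MulAut.conj (x * c) • N = MulAut.conj x • N := by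
  rw [← conj_conj, conj_eq (K.nor hc)]

omit [Finite G] in
/-- `N^x` normalises all lines on `x`. -/
theorem norm_line (K : Ker Z C N F) {P : Subgroup G} (hP : P ∈ F) (x : G) {c : G} (hc : c ∈ C) :
    MulAut.conj x • N ≤ normalizer ((MulAut.conj (x * c) • V Z P : Subgroup G) : Set G) := by
  rw [← conj_N K hc, Main.normalizer_conj]
  exact conj_le_iff.2 (K.line P hP)

variable (S : Sylow 2 G) (D : Geo (S : Subgroup G) Z C F) (K : Ker Z C N F)
  (hSC : (S : Subgroup G) ≤ C)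
include hSC K

/-- A 2-subgroup of `N^x` lies in `S^{x n}` for some `n ∈ N`. -/
theorem exists_le_conj_N {A : Subgroup G} (hA : IsPGroup 2 A) {x : G} (h : A ≤ MulAut.conj x • N) :
    ∃ n ∈ N, A ≤ MulAut.conj (x * n) • (S : Subgroup G) := by
  -- `A^{x⁻¹} ≤ N`, and `S N` contains `S`
  have h1 : MulAut.conj x⁻¹ • A ≤ N := by
    have := conj_le_iff (g := x⁻¹) |>.2 h
    rwa [conj_conj, inv_mul_cancel, map_one, one_smul] at this
  have hNS : (S : Subgroup G) ≤ normalizer (N : Set G) := hSC.trans K.nor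
  obtain ⟨m, hm, h2⟩ := Main.exists_le_conj S (M := N ⊔ S) le_sup_right
    (hA.map (MulAut.conj x⁻¹).toMonoidHom) (h1.trans le_sup_left)
  -- `m = n s`
  have h3 : m ∈ (N : Set G) * ((S : Subgroup G) : Set G) := by
    rw [← Subgroup.coe_mul_of_right_le_normalizer_left N (S : Subgroup G) hNS]
    exact hm
  obtain ⟨n, hn, s, hs, rfl⟩ := Set.mem_mul.1 h3
  refine ⟨n, hn, ?_⟩
  rw [← conj_conj n s, conj_self (P := (S : Subgroup G)) hs] at h2
  have h4 := conj_le_iff (g := x) |>.2 h2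
  change MulAut.conj x • (MulAut.conj x⁻¹ • A) ≤ _ at h4
  rwa [conj_conj, mul_inv_cancel, map_one, one_smul, conj_conj] at h4

variable (hJ : ∀ A : Subgroup G, MaxEA A → A ≤ S → A ≤ N)
include D hJ

/-- **(0)** `Z_x ≤ A` implies `A ≤ N^x`. -/
theorem le_conj_N {A : Subgroup G} (hA : MaxEA A) {x : G} (hx : MulAut.conj x • Z ≤ A) :
    A ≤ MulAut.conj x • N := by
  have h1 : A ≤ MulAut.conj x • C := by
    refine (comm_mono hA.comm le_rfl hx).trans fun a ha => ?_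
    rw [mem_conj]
    apply D.cen
    rw [mem_centralizer_iff]
    intro z hz
    have h1 : x * z * x⁻¹ ∈ MulAut.conj x • Z := by
      rw [mem_conj]
      simpa [mul_assoc] using hz
    have h2 := congrArg (fun t => x⁻¹ * t * x) (mem_centralizer_iff.1 ha _ h1)
    simpa [mul_assoc] using h2
  have h2 : MulAut.conj x⁻¹ • A ≤ C := by
    have := conj_le_iff (g := x⁻¹) |>.2 h1
    rwa [conj_conj, inv_mul_cancel, map_one, one_smul] at this
  obtain ⟨c, hc, h3⟩ := Main.exists_le_conj S hSC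
    (hA.isPGroup.map (MulAut.conj x⁻¹).toMonoidHom) h2
  change MulAut.conj x⁻¹ • A ≤ _ at h3
  have h4 : MulAut.conj c⁻¹ • (MulAut.conj x⁻¹ • A) ≤ S := by
    have := conj_le_iff (g := c⁻¹) |>.2 h3
    rwa [conj_conj c⁻¹ c, inv_mul_cancel, map_one, one_smul] at this
  have h5 := hJ _ ((hA.conj x⁻¹).conj c⁻¹) h4
  have h6 := conj_le_iff (g := x * c) |>.2 h5
  rw [conj_conj, conj_conj, conj_N K hc] at h6
  have e : x * c * c⁻¹ * x⁻¹ = 1 := by group
  rwa [e, map_one, one_smul] at h6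

variable (hV : ∀ P ∈ F, NoOver (S : Subgroup G) (V Z P))
include hV

/-- **(1)** `Z_x ≤ A` implies `W_x C_A(W_x) ≤ A₁` for some `A₁` of maximal order. -/
theorem exists_W {x : G} : ∀ n : ℕ, ∀ A : Subgroup G, MaxEA A → MulAut.conj x • Z ≤ A →
    Nat.card (MulAut.conj x • W Z C F : Subgroup G) ≤
      Nat.card (A ⊓ MulAut.conj x • W Z C F : Subgroup G) + n →
    ∃ A₁ : Subgroup G, MaxEA A₁ ∧ MulAut.conj x • W Z C F ≤ A₁ ∧
      A ⊓ centralizer ((MulAut.conj x • W Z C F : Subgroup G) : Set G) ≤ A₁ := by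
  intro n
  induction n with
  | zero =>
    intro A hA _ hc
    refine ⟨A, hA, ?_, inf_le_left⟩
    have := Subgroup.eq_of_le_of_card_ge inf_le_right hc
    rw [← this]
    exact inf_le_left
  | succ n ih =>
    intro A hA hZ hc
    by_cases hle : MulAut.conj x • W Z C F ≤ A
    · exact ⟨A, hA, hle, inf_le_left⟩
    -- a line on `x` not in `A`
    obtain ⟨P, hP, c, hc', hl⟩ : ∃ P ∈ F, ∃ c ∈ C, ¬ MulAut.conj (x * c) • V Z P ≤ A := by
      by_contra hcon
      push Not at hcon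
      exact hle (conj_W_le fun P hP c hc => hcon P hP c hc)
    have hlW : MulAut.conj (x * c) • V Z P ≤ MulAut.conj x • W Z C F := conj_line_le hP x hc'
    have hAN := le_conj_N S D K hSC hJ hA hZ
    rw [← conj_N K hc'] at hAN
    obtain ⟨m, hm, hAS⟩ := exists_le_conj_N S K hSC hA.isPGroup hAN
    have hmV : MulAut.conj (x * c * m) • V Z P = MulAut.conj (x * c) • V Z P := by
      rw [← conj_conj, conj_eq (K.line P hP hm)]
    have hEV : EA (MulAut.conj (x * c) • V Z P) := EA.conj ⟨D.abel P hP, D.V_sq hP⟩ _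
    have h1 := (hV P hP).conj hAS hA.toEA
    rw [hmV] at h1
    have h2 := replace hA hEV h1
    have h0 : MulAut.conj x • Z ≤ A ⊓ centralizer ((MulAut.conj (x * c) • V Z P : Subgroup G) : Set G) ⊔
        MulAut.conj (x * c) • V Z P := by
      refine le_trans ?_ le_sup_right
      have e : MulAut.conj x • Z = MulAut.conj (x * c * 1) • Z := by
        rw [mul_one, ← conj_conj, conj_eq (D.CZ hc')]
      rw [e]
      exact conj_Z_le P.one_mem
    have h5 : A ⊓ MulAut.conj x • W Z C F ≤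
        (A ⊓ centralizer ((MulAut.conj (x * c) • V Z P : Subgroup G) : Set G) ⊔
          MulAut.conj (x * c) • V Z P) ⊓ MulAut.conj x • W Z C F := by
      refine le_inf (le_trans (le_inf inf_le_left ?_) le_sup_left) inf_le_right
      exact comm_mono (D.W_comm' x) inf_le_right hlW
    have h6 : Nat.card (A ⊓ MulAut.conj x • W Z C F : Subgroup G) <
        Nat.card ((A ⊓ centralizer ((MulAut.conj (x * c) • V Z P : Subgroup G) : Set G) ⊔
          MulAut.conj (x * c) • V Z P) ⊓ MulAut.conj x • W Z C F : Subgroup G) := by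
      by_contra hcon
      push Not at hcon
      have h7 := Subgroup.eq_of_le_of_card_ge h5 hcon
      apply hl
      have h8 : MulAut.conj (x * c) • V Z P ≤ A ⊓ MulAut.conj x • W Z C F := by
        rw [h7]
        exact le_inf le_sup_right hlW
      exact h8.trans inf_le_left
    obtain ⟨A₁, hA₁, h3, h4⟩ := ih _ h2 h0 (by omega)
    refine ⟨A₁, hA₁, h3, ?_⟩
    refine le_trans (le_inf ?_ inf_le_right) h4
    exact le_trans (inf_le_inf_left _ (centralizer_le hlW)) le_sup_left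

/-- **(2)** All `W_x`, `W_y` in a component commute, and `W_x W_y ≤ A` for some `A` of maximal order. -/
theorem all_com : ∀ d : ℕ, ∀ x y : G, Path C F d x y → Com Z C F x y ∧
    ∃ A : Subgroup G, MaxEA A ∧ MulAut.conj x • W Z C F ≤ A ∧ MulAut.conj y • W Z C F ≤ A := by
  -- points exist
  intro d
  induction d with
  | zero =>
    intro x y h
    cases h with
    | zero _ hc =>
      refine ⟨?_, ?_⟩
      · unfold Com
        rw [W_mul hc]
        exact D.W_comm' x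
      · obtain ⟨A, hA⟩ := exists_maxEA G
        obtain ⟨T, hT⟩ := hA.isPGroup.exists_le_sylow
        obtain ⟨g, hg⟩ := MulAction.exists_smul_eq G T S
        have h1 : MulAut.conj (x * g) • A ≤ MulAut.conj x • (S : Subgroup G) := by
          rw [← conj_conj]
          apply conj_le_iff.2
          rw [← hg, Sylow.coe_subgroup_smul]
          exact conj_le_iff.2 hT
        have hA' := hA.conj (x * g)
        have hZ : MulAut.conj x • Z ≤ MulAut.conj (x * g) • A := by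
          refine hA'.le_of_centralizer (EA.conj ⟨D.ZS.trans D.cent, D.Zsq⟩ x) ?_
          exact comm_symm (h1.trans (conj_le_centralizer D.cent))
        obtain ⟨A₁, hA₁, h2, -⟩ := exists_W S D K hSC hJ hV (x := x) _ _ hA' hZ (Nat.le_add_left _ _)
        exact ⟨A₁, hA₁, h2, by rw [W_mul hc]; exact h2⟩
  | succ d ih =>
    intro x y h
    -- neighbours
    have key : ∀ x y, Path C F (d + 1) x y → ∃ u, Path C F d x u ∧
        MulAut.conj y • Z ≤ MulAut.conj u • W Z C F := by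
      intro x y h
      cases h with
      | @step _ _ u p c P hu hP hp hc =>
        refine ⟨u, hu, ?_⟩
        rw [← conj_conj (u * p) c, conj_eq (D.CZ hc)]
        exact (conj_Z_le hp).trans (conj_line_le' hP u)
    obtain ⟨u, hu, hyu⟩ := key x y h
    obtain ⟨v, hv, hxv⟩ := key y x h.symm
    obtain ⟨-, A, hA, hAv, hAy⟩ := ih v y hv.symm
    obtain ⟨-, B, hB, hBx, hBu⟩ := ih x u hu
    have hAx := hxv.trans hAv
    have hAN := le_conj_N S D K hSC hJ hA hAx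
    have hBN := le_conj_N S D K hSC hJ hB (hyu.trans hBu)
    have hcom : Com Z C F x y := by
      refine conj_W_le fun P hP c hc => comm_symm (conj_W_le fun P' hP' c' hc' => comm_symm ?_)
      refine noff_lines D.toSys hP hP' ?_ ?_
      · exact ((conj_line_le hP x hc).trans (hBx.trans hBN)).trans (norm_line K hP' y hc')
      · exact ((conj_line_le hP' y hc').trans (hAy.trans hAN)).trans (norm_line K hP x hc)
    refine ⟨hcom, ?_⟩
    obtain ⟨A₁, hA₁, h2, h3⟩ := exists_W S D K hSC hJ hV (x := x) _ _ hA hAx (Nat.le_add_left _ _)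
    exact ⟨A₁, hA₁, h2, (le_inf hAy (Com.symm hcom)).trans h3⟩

end

/-- **THEOREM J***, elements form: if there is a critical pair, some elementary abelian subgroup of
maximal order of `S` is not contained in `N`. -/
theorem exists_not_le {Z C N : Subgroup G} {F : Set (Subgroup G)} (S : Sylow 2 G)
    (D : Geo (S : Subgroup G) Z C F) (K : Ker Z C N F) (hSC : (S : Subgroup G) ≤ C)
    (hV : ∀ P ∈ F, NoOver (S : Subgroup G) (V Z P)) {n : ℕ} {x y : G} (h : Crit Z C F n x y) :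
    ∃ A : Subgroup G, MaxEA A ∧ A ≤ S ∧ ¬ A ≤ N := by
  by_contra hcon
  push Not at hcon
  exact h.ne (all_com S D K hSC hcon hV n x y h.path).1

/-- **THEOREM J***: `J(S)` is not contained in `N`. -/
theorem not_le {Z C N : Subgroup G} {F : Set (Subgroup G)} (S : Sylow 2 G)
    (D : Geo (S : Subgroup G) Z C F) (K : Ker Z C N F) (hSC : (S : Subgroup G) ≤ C)
    (hV : ∀ P ∈ F, NoOver (S : Subgroup G) (V Z P)) {n : ℕ} {x y : G} (h : Crit Z C F n x y) :
    ¬ jj (S : Subgroup G) ≤ N := by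
  obtain ⟨A, hA, hAS, hAN⟩ := exists_not_le S D K hSC hV h
  intro h1
  refine hAN (le_trans ?_ h1)
  rw [jj, PLocal.ThompsonJ.thompsonSubgroupOf_sylow_eq]
  refine le_sSup ⟨?_, hAS⟩
  exact ⟨PLocal.ThompsonJ.isElementaryAbelian_iff.2 ⟨fun a ha b hb =>
    (mem_centralizer_iff.1 (hA.comm ha) b hb).symm, hA.sq⟩, fun B hB => hA.max B
    ⟨fun a ha => mem_centralizer_iff.2 fun b hb => PLocal.ThompsonJ.isElementaryAbelian_comm hB hb ha, hB.2⟩⟩

end Cfsg.Agent.Omega.NoFF.ThmJ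

end

section


/-!
# NO-3S, socket `Fld`: LEMMA U (TEXT 973-2), K-free

`V` a natural `SL₂(q)`-module for `P` (coordinates `e : F² → V`), `Q` normal in `P`, `[V, Q] = 1`, `A` an offender on
`U = V ⟨E^P⟩`, `A / C_A(U)` elementary abelian, inducing the full root group on `V`, and `C_A(V) ≤ Q`.

`lemU` : `E ≤ Q` elementary abelian, `[E, E^g] = 1` for `g ∈ P`, `[E, Q] ≤ R = {e (a, 0)}` and no over-offender of `Q` on `E`
⟹ `[E, Q] = 1`.

`off_of_max` : the offender condition for `A` elementary abelian of maximal order (compared with the subgroups of `Q`).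
-/

set_option autoImplicit false
set_option linter.unusedSectionVars false

namespace Cfsg.Agent.Omega.NO3S.Fld.LemU

open Subgroup Cfsg.Agent.Omega.NO3b.Ineq Cfsg.Agent.Omega.NO3S.PT
open scoped Pointwise

variable {G : Type*} [Group G] {F : Type*} [Field F]

/-- commuting elements of order `≤ 2` -/
def El (K : Subgroup G) : Prop := (∀ a ∈ K, ∀ b ∈ K, a * b = b * a) ∧ ∀ a ∈ K, a * a = 1

theorem El.mono {K L : Subgroup G} (h : El K) (hL : L ≤ K) : El L :=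
  ⟨fun a ha b hb => h.1 a (hL ha) b (hL hb), fun a ha => h.2 a (hL ha)⟩

/-- `K / C_K(U)` is elementary abelian -/
def ElM (U K : Subgroup G) : Prop :=
  (∀ a ∈ K, ∀ b ∈ K, a * b * a⁻¹ * b⁻¹ ∈ centralizer (U : Set G)) ∧ ∀ a ∈ K, a * a ∈ centralizer (U : Set G)

theorem ElM.mono {U K L : Subgroup G} (h : ElM U K) (hL : L ≤ K) : ElM U L :=
  ⟨fun a ha b hb => h.1 a (hL ha) b (hL hb), fun a ha => h.2 a (hL ha)⟩

theorem ElM.low {U W K : Subgroup G} (h : ElM U K) (hW : W ≤ U) : ElM W K :=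
  ⟨fun a ha b hb => centralizer_le hW (h.1 a ha b hb), fun a ha => centralizer_le hW (h.2 a ha)⟩

theorem El.elM {K : Subgroup G} (h : El K) (U : Subgroup G) : ElM U K :=
  ⟨fun a ha b hb => by
    have e : a * b * a⁻¹ * b⁻¹ = 1 := by rw [h.1 a ha b hb]; group
    rw [e]; exact one_mem _, fun a ha => by rw [h.2 a ha]; exact one_mem _⟩

/-- the family -/
def Fam (P V E : Subgroup G) : Set (Subgroup G) := {L | L = V ∨ ∃ g ∈ P, L = cj g E}

/-- `U = V ⟨E^P⟩` -/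
def UU (P V E : Subgroup G) : Subgroup G := sSup (Fam P V E)

/-- **The hypotheses of LEMMA U.** -/
structure Hyp (P Q V A E : Subgroup G) (e : (Fin 2 → F) → G) : Prop where
  QP : Q ≤ P
  Qn : P ≤ normalizer (Q : Set G)
  Vn : P ≤ normalizer (V : Set G)
  VQ : V ≤ Q
  QV : Q ≤ centralizer (V : Set G)
  e_add : ∀ x y, e (x + y) = e x * e y
  e_inj : Function.Injective e
  mem_iff : ∀ g, g ∈ V ↔ ∃ x, e x = g
  Vsq : ∀ v ∈ V, v * v = 1
  AP : A ≤ P
  Ael : ElM (UU P V E) A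
  off : cidx (UU P V E) A ≤ cidx A (UU P V E)
  act : ∀ a ∈ A, ∃ t : F, ∀ x, a * e x * a⁻¹ = e ![x 0 + t * x 1, x 1]
  full : ∀ t : F, ∃ a ∈ A, ∀ x, a * e x * a⁻¹ = e ![x 0 + t * x 1, x 1]
  AQ : A ⊓ centralizer (V : Set G) ≤ Q
  swap : ∃ w ∈ P, ∀ x, w * e x * w⁻¹ = e ![x 1, x 0]
  EQ : E ≤ Q
  Eel : El E
  EE : ∀ g ∈ P, ∀ x ∈ E, ∀ y ∈ E, x * (g * y * g⁻¹) = g * y * g⁻¹ * x
  ER : ∀ x ∈ E, ∀ t ∈ Q, ∃ a : F, t * x * t⁻¹ * x⁻¹ = e ![a, 0]
  no : ∀ K : Subgroup G, K ≤ Q → ElM E K → cidx K E ≤ cidx E K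

theorem ext2 {x y : Fin 2 → F} (h0 : x 0 = y 0) (h1 : x 1 = y 1) : x = y := by
  funext i
  fin_cases i
  · exact h0
  · exact h1

theorem card_rel {H K : Subgroup G} (hHK : H ≤ K) : Nat.card H * H.relIndex K = Nat.card K := by
  rw [← Nat.card_congr (Subgroup.subgroupOfEquivOfLe hHK).toEquiv, relIndex, Subgroup.card_mul_index]

namespace Hyp

variable {P Q V A E : Subgroup G} {e : (Fin 2 → F) → G} (h : Hyp P Q V A E e)
include h

theorem e_zero : e 0 = 1 := by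
  have := h.e_add 0 0
  rw [add_zero] at this
  exact left_eq_mul.1 this

theorem e_mem (x : Fin 2 → F) : e x ∈ V := (h.mem_iff _).2 ⟨x, rfl⟩

theorem V_le : V ≤ UU P V E := le_sSup (Or.inl rfl)

theorem E_le {g : G} (hg : g ∈ P) : cj g E ≤ UU P V E := le_sSup (Or.inr ⟨g, hg, rfl⟩)

theorem Eg_Q {g : G} (hg : g ∈ P) : cj g E ≤ Q := by
  have h1 : cj g E ≤ cj g Q := cj_le_cj.2 h.EQ
  rwa [cj_eq_iff.2 (h.Qn hg)] at h1

theorem U_le_Q : UU P V E ≤ Q := by
  refine sSup_le ?_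
  rintro L (rfl | ⟨g, hg, rfl⟩)
  · exact h.VQ
  · exact h.Eg_Q hg

theorem fam_comm {L L' : Subgroup G} (hL : L ∈ Fam P V E) (hL' : L' ∈ Fam P V E) :
    L ≤ centralizer (L' : Set G) := by
  rcases hL with rfl | ⟨g, hg, rfl⟩
  · rcases hL' with rfl | ⟨g', hg', rfl⟩
    · exact h.VQ.trans h.QV
    · rw [Subgroup.le_centralizer_iff]
      exact (h.Eg_Q hg').trans h.QV
  · rcases hL' with rfl | ⟨g', hg', rfl⟩
    · exact (h.Eg_Q hg).trans h.QV
    · intro x hx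
      rw [mem_centralizer_iff]
      intro y hy
      have h1 := h.EE (g'⁻¹ * g) (mul_mem (inv_mem hg') hg) _ (mem_cj.1 hy) _ (mem_cj.1 hx)
      have h2 := congrArg (fun t => g' * t * g'⁻¹) h1
      have e1 : g' * (g'⁻¹ * y * g' * (g'⁻¹ * g * (g⁻¹ * x * g) * (g'⁻¹ * g)⁻¹)) * g'⁻¹ = y * x := by group
      have e2 : g' * (g'⁻¹ * g * (g⁻¹ * x * g) * (g'⁻¹ * g)⁻¹ * (g'⁻¹ * y * g')) * g'⁻¹ = x * y := by group
      simp only [e1, e2] at h2
      exact h2

theorem U_comm : UU P V E ≤ centralizer ((UU P V E : Subgroup G) : Set G) := by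
  refine sSup_le fun L hL => ?_
  rw [Subgroup.le_centralizer_iff]
  exact sSup_le fun L' hL' => h.fam_comm hL' hL

theorem U_comm' {x y : G} (hx : x ∈ UU P V E) (hy : y ∈ UU P V E) : x * y = y * x :=
  (mem_centralizer_iff.1 (h.U_comm hx) y hy).symm

theorem U_sq : ∀ u ∈ UU P V E, u * u = 1 := by
  let T : Subgroup G :=
    { carrier := {x | x ∈ UU P V E ∧ x * x = 1}
      one_mem' := ⟨one_mem _, one_mul 1⟩
      mul_mem' := by
        rintro x y ⟨hx, hx2⟩ ⟨hy, hy2⟩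
        refine ⟨mul_mem hx hy, ?_⟩
        have h1 := h.U_comm' hy hx
        calc x * y * (x * y) = x * (y * x) * y := by group
          _ = x * (x * y) * y := by rw [h1]
          _ = x * x * (y * y) := by group
          _ = 1 := by rw [hx2, hy2, one_mul]
      inv_mem' := by
        rintro x ⟨hx, hx2⟩
        refine ⟨inv_mem hx, ?_⟩
        rw [← mul_inv_rev, hx2, inv_one] }
  have h1 : UU P V E ≤ T := by
    refine sSup_le ?_
    rintro L (rfl | ⟨g, hg, rfl⟩) x hx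
    · exact ⟨h.V_le hx, h.Vsq x hx⟩
    · refine ⟨h.E_le hg hx, ?_⟩
      have h2 := congrArg (fun t => g * t * g⁻¹) (h.Eel.2 _ (mem_cj.1 hx))
      simpa [mul_assoc] using h2
  exact fun u hu => (h1 hu).2

theorem U_el : El (UU P V E) := ⟨fun _ ha _ hb => h.U_comm' ha hb, h.U_sq⟩

/-- `[U, Q] ≤ V` -/
theorem UQ {u t : G} (hu : u ∈ UU P V E) (ht : t ∈ Q) : t * u * t⁻¹ * u⁻¹ ∈ V := by
  let T : Subgroup G :=
    { carrier := {x | x ∈ Q ∧ ∀ t ∈ Q, t * x * t⁻¹ * x⁻¹ ∈ V}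
      one_mem' := ⟨one_mem _, fun t _ => by simp⟩
      mul_mem' := by
        rintro x y ⟨hx, hx2⟩ ⟨hy, hy2⟩
        refine ⟨mul_mem hx hy, fun t ht => ?_⟩
        have h1 : t * (x * y) * t⁻¹ * (x * y)⁻¹ = t * x * t⁻¹ * x⁻¹ * (x * (t * y * t⁻¹ * y⁻¹) * x⁻¹) := by group
        have h2 := mem_centralizer_iff.1 (h.QV hx) _ (hy2 t ht)
        rw [h1, ← h2, mul_inv_cancel_right]
        exact mul_mem (hx2 t ht) (hy2 t ht)
      inv_mem' := by
        rintro x ⟨hx, hx2⟩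
        refine ⟨inv_mem hx, fun t ht => ?_⟩
        have h1 : t * x⁻¹ * t⁻¹ * x⁻¹⁻¹ = x⁻¹ * ((x * (t * x⁻¹ * t⁻¹))) * x := by group
        have h3 : x * (t * x⁻¹ * t⁻¹) = (t * x * t⁻¹ * x⁻¹)⁻¹ := by group
        have h2 := mem_centralizer_iff.1 (h.QV (inv_mem hx)) _ (inv_mem (hx2 t ht))
        rw [h1, h3, ← h2, inv_mul_cancel_right]
        exact inv_mem (hx2 t ht) }
  have h1 : UU P V E ≤ T := by
    refine sSup_le ?_
    rintro L (rfl | ⟨g, hg, rfl⟩) x hx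
    · refine ⟨h.VQ hx, fun t ht => ?_⟩
      have := mem_centralizer_iff.1 (h.QV ht) x hx
      rw [← this, mul_inv_cancel_right, mul_inv_cancel]
      exact one_mem _
    · refine ⟨h.Eg_Q hg hx, fun t ht => ?_⟩
      have htg : g⁻¹ * t * g ∈ Q := by
        have := (mem_normalizer_iff.1 (h.Qn (inv_mem hg)) t).1 ht
        rwa [inv_inv] at this
      obtain ⟨a, ha⟩ := h.ER _ (mem_cj.1 hx) _ htg
      have h2 : g⁻¹ * t * g * (g⁻¹ * x * g) * (g⁻¹ * t * g)⁻¹ * (g⁻¹ * x * g)⁻¹ ∈ V := by rw [ha]; exact h.e_mem _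
      have h3 := (mem_normalizer_iff.1 (h.Vn hg) _).1 h2
      have h4 : g * (g⁻¹ * t * g * (g⁻¹ * x * g) * (g⁻¹ * t * g)⁻¹ * (g⁻¹ * x * g)⁻¹) * g⁻¹ = t * x * t⁻¹ * x⁻¹ := by
        group
      rwa [h4] at h3
  exact (h1 hu).2 t ht

end Hyp

/-! ### Coordinates -/

open Classical in
/-- the coordinates of `v ∈ V` -/
noncomputable def co (e : (Fin 2 → F) → G) (g : G) : Fin 2 → F := if h : ∃ x, e x = g then h.choose else 0

/-- `u ↦ (a ↦ [a, u])` -/
noncomputable def ff (A Q : Subgroup G) (e : (Fin 2 → F) → G) (u : G) : (A ⊓ Q : Subgroup G) → Fin 2 → F :=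
  fun a => co e ((a : G) * u * (a : G)⁻¹ * u⁻¹)

namespace Hyp

variable {P Q V A E : Subgroup G} {e : (Fin 2 → F) → G} (h : Hyp P Q V A E e)
include h

theorem co_e (x : Fin 2 → F) : co e (e x) = x := by
  have hx : ∃ y, e y = e x := ⟨x, rfl⟩
  rw [co, dif_pos hx]
  exact h.e_inj hx.choose_spec

theorem e_co {v : G} (hv : v ∈ V) : e (co e v) = v := by
  obtain ⟨x, rfl⟩ := (h.mem_iff v).1 hv
  rw [h.co_e]

theorem co_mul {v w : G} (hv : v ∈ V) (hw : w ∈ V) : co e (v * w) = co e v + co e w := by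
  obtain ⟨x, rfl⟩ := (h.mem_iff v).1 hv
  obtain ⟨y, rfl⟩ := (h.mem_iff w).1 hw
  rw [← h.e_add, h.co_e, h.co_e, h.co_e]

theorem co_one : co e 1 = 0 := by rw [← h.e_zero, h.co_e]

theorem aQ (a : (A ⊓ Q : Subgroup G)) : (a : G) ∈ Q := a.2.2

theorem ff_mem {u : G} (hu : u ∈ UU P V E) (a : (A ⊓ Q : Subgroup G)) : (a : G) * u * (a : G)⁻¹ * u⁻¹ ∈ V :=
  h.UQ hu a.2.2

theorem ff_mul {u v : G} (hu : u ∈ UU P V E) (hv : v ∈ UU P V E) : ff A Q e (u * v) = ff A Q e u + ff A Q e v := by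
  funext a
  have h1 := h.ff_mem hu a
  have h2 := h.ff_mem hv a
  show co e _ = co e _ + co e _
  rw [← h.co_mul h1 h2]
  congr 1
  have h3 := h.U_comm' hu (h.V_le h2)
  calc (a : G) * (u * v) * (a : G)⁻¹ * (u * v)⁻¹
      = a * u * (a : G)⁻¹ * (a * v * (a : G)⁻¹ * v⁻¹) * u⁻¹ := by group
    _ = a * u * (a : G)⁻¹ * u⁻¹ * (u * (a * v * (a : G)⁻¹ * v⁻¹)) * u⁻¹ := by group
    _ = a * u * (a : G)⁻¹ * u⁻¹ * ((a * v * (a : G)⁻¹ * v⁻¹) * u) * u⁻¹ := by rw [h3]
    _ = _ := by group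

theorem ff_act {u : G} (hu : u ∈ UU P V E) (a b : (A ⊓ Q : Subgroup G)) :
    ff A Q e u (a * b) = ff A Q e u a + ff A Q e u b := by
  have h1 := h.ff_mem hu a
  have h2 := h.ff_mem hu b
  show co e _ = co e _ + co e _
  rw [← h.co_mul h1 h2]
  congr 1
  have h3 := mem_centralizer_iff.1 (h.QV (h.aQ a)) _ h2
  have h4 := h.U_comm' (h.V_le h1) (h.V_le h2)
  calc ((a * b : (A ⊓ Q : Subgroup G)) : G) * u * ((a * b : (A ⊓ Q : Subgroup G)) : G)⁻¹ * u⁻¹
      = (a : G) * b * u * ((a : G) * b)⁻¹ * u⁻¹ := rfl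
    _ = a * (b * u * (b : G)⁻¹ * u⁻¹) * (a : G)⁻¹ * (a * u * (a : G)⁻¹ * u⁻¹) := by group
    _ = (b * u * (b : G)⁻¹ * u⁻¹) * a * (a : G)⁻¹ * (a * u * (a : G)⁻¹ * u⁻¹) := by rw [← h3]
    _ = (b * u * (b : G)⁻¹ * u⁻¹) * (a * u * (a : G)⁻¹ * u⁻¹) := by group
    _ = _ := h4.symm

theorem ff_eq_zero {u : G} (hu : u ∈ UU P V E) :
    ff A Q e u = 0 ↔ u ∈ centralizer ((A ⊓ Q : Subgroup G) : Set G) := by
  rw [mem_centralizer_iff]
  constructor
  · intro h1 a ha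
    have h2 := congrFun h1 ⟨a, ha⟩
    have h3 : a * u * a⁻¹ * u⁻¹ = 1 := by
      rw [← h.e_co (h.ff_mem hu ⟨a, ha⟩)]
      show e (ff A Q e u ⟨a, ha⟩) = 1
      rw [h2]
      exact h.e_zero
    rwa [mul_inv_eq_one, mul_inv_eq_iff_eq_mul] at h3
  · intro h1
    funext a
    show co e _ = 0
    have h2 := h1 a a.2
    rw [h2, mul_inv_cancel_right, mul_inv_cancel, h.co_one]

/-- the homomorphism `W → (A ∩ Q → F²)` -/
noncomputable def hom {W : Subgroup G} (hW : W ≤ UU P V E) : W →* Multiplicative ((A ⊓ Q : Subgroup G) → Fin 2 → F) :=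
  MonoidHom.mk' (fun u => Multiplicative.ofAdd (ff A Q e u)) (by
    rintro ⟨u, hu⟩ ⟨v, hv⟩
    exact congrArg Multiplicative.ofAdd (h.ff_mul (hW hu) (hW hv)))

theorem hom_apply {W : Subgroup G} (hW : W ≤ UU P V E) (u : W) :
    h.hom hW u = Multiplicative.ofAdd (ff A Q e u) := rfl

theorem cidx_eq {W : Subgroup G} (hW : W ≤ UU P V E) :
    cidx W (A ⊓ Q) = Nat.card (h.hom hW).range := by
  have h1 : (h.hom hW).ker = (centralizer ((A ⊓ Q : Subgroup G) : Set G)).subgroupOf W := by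
    ext u
    rw [MonoidHom.mem_ker, mem_subgroupOf, ← h.ff_eq_zero (hW u.2), h.hom_apply]
    exact ⟨fun h1 => congrArg Multiplicative.toAdd h1, fun h1 => congrArg Multiplicative.ofAdd h1⟩
  rw [cidx, relIndex, ← h1, Subgroup.index_ker]


/-! ### The linear algebra -/

/-- the conjugate `D = E^w` -/
theorem D_co {w : G} (hw : w ∈ P) (hwe : ∀ x, w * e x * w⁻¹ = e ![x 1, x 0]) {d t : G} (hd : d ∈ cj w E) (ht : t ∈ Q) :
    ∃ b : F, t * d * t⁻¹ * d⁻¹ = e ![0, b] := by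
  have htg : w⁻¹ * t * w ∈ Q := by
    have := (mem_normalizer_iff.1 (h.Qn (inv_mem hw)) t).1 ht
    rwa [inv_inv] at this
  obtain ⟨a, ha⟩ := h.ER _ (mem_cj.1 hd) _ htg
  refine ⟨a, ?_⟩
  have h4 : w * (w⁻¹ * t * w * (w⁻¹ * d * w) * (w⁻¹ * t * w)⁻¹ * (w⁻¹ * d * w)⁻¹) * w⁻¹ = t * d * t⁻¹ * d⁻¹ := by
    group
  rw [← h4, ha, hwe]
  rfl

/-- `W = ⟨D^A⟩` -/
def WW (A D : Subgroup G) : Subgroup G := sSup {L | ∃ a ∈ A, L = cj a D}

theorem WW_le {w : G} (hw : w ∈ P) : WW A (cj w E) ≤ UU P V E := by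
  refine sSup_le ?_
  rintro L ⟨a, ha, rfl⟩
  rw [cj_cj]
  exact h.E_le (mul_mem (h.AP ha) hw)

theorem conj_mem_WW {D : Subgroup G} {a d : G} (ha : a ∈ A) (hd : d ∈ D) : a * d * a⁻¹ ∈ WW A D :=
  (le_sSup ⟨a, ha, rfl⟩ : cj a D ≤ WW A D) (conj_mem_cj hd)

theorem D_le_WW {D : Subgroup G} : D ≤ WW A D := by
  intro d hd
  have := h.conj_mem_WW (one_mem A) hd
  simpa using this

/-- the second coordinates of `[D, a]` -/
theorem ff_zero {w : G} (hw : w ∈ P) (hwe : ∀ x, w * e x * w⁻¹ = e ![x 1, x 0]) {d : G} (hd : d ∈ cj w E)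
    (a : (A ⊓ Q : Subgroup G)) : ff A Q e d a 0 = 0 := by
  obtain ⟨b, hb⟩ := h.D_co hw hwe hd (h.aQ a)
  show co e _ 0 = 0
  rw [hb, h.co_e]
  rfl

/-- `[a, d^α] = [a, d]^α` -/
theorem ff_conj {d α : G} (hd : d ∈ UU P V E) (hα : α ∈ A) {t : F}
    (ht : ∀ x, α * e x * α⁻¹ = e ![x 0 + t * x 1, x 1]) (a : (A ⊓ Q : Subgroup G)) :
    ff A Q e (α * d * α⁻¹) a = ![ff A Q e d a 0 + t * ff A Q e d a 1, ff A Q e d a 1] := by
  have h1 := h.ff_mem hd a
  have h2 : (a : G) * (α * d * α⁻¹) * (a : G)⁻¹ * (α * d * α⁻¹)⁻¹ = α * (a * d * (a : G)⁻¹ * d⁻¹) * α⁻¹ := by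
    -- `c = a⁻¹ α⁻¹ a α` centralises `d`
    have h3 : d * ((a : G)⁻¹ * α⁻¹ * a⁻¹⁻¹ * α⁻¹⁻¹) = (a : G)⁻¹ * α⁻¹ * a⁻¹⁻¹ * α⁻¹⁻¹ * d :=
      mem_centralizer_iff.1 (h.Ael.1 _ (inv_mem a.2.1) _ (inv_mem hα)) d hd
    have h4 : (a : G) * (α * d * α⁻¹) * (a : G)⁻¹ = α * (a * d * (a : G)⁻¹) * α⁻¹ := by
      calc (a : G) * (α * d * α⁻¹) * (a : G)⁻¹
          = α * a * ((a : G)⁻¹ * α⁻¹ * a⁻¹⁻¹ * α⁻¹⁻¹ * d) * α⁻¹ * (a : G)⁻¹ := by group
        _ = α * a * (d * ((a : G)⁻¹ * α⁻¹ * a⁻¹⁻¹ * α⁻¹⁻¹)) * α⁻¹ * (a : G)⁻¹ := by rw [h3]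
        _ = _ := by group
    calc (a : G) * (α * d * α⁻¹) * (a : G)⁻¹ * (α * d * α⁻¹)⁻¹
        = α * (a * d * (a : G)⁻¹) * α⁻¹ * (α * d * α⁻¹)⁻¹ := by rw [h4]
      _ = _ := by group
  show co e _ = _
  rw [h2, ← h.e_co h1, ht, h.co_e]
  rfl

/-- the set of second coordinates -/
noncomputable def homD (w : G) (hw : w ∈ P) : cj w E →* Multiplicative ((A ⊓ Q : Subgroup G) → F) :=
  MonoidHom.mk' (fun u => Multiplicative.ofAdd (fun a => ff A Q e u a 1)) (by
    rintro ⟨u, hu⟩ ⟨v, hv⟩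
    refine congrArg Multiplicative.ofAdd ?_
    show (fun a => ff A Q e (u * v) a 1) = fun a => ff A Q e u a 1 + ff A Q e v a 1
    rw [h.ff_mul (h.E_le hw hu) (h.E_le hw hv)]
    rfl)

/-- `Ψ` : the `F`-span -/
def Psi (A Q : Subgroup G) (e : (Fin 2 → F) → G) (D : Subgroup G) : Submodule F ((A ⊓ Q : Subgroup G) → F) :=
  Submodule.span F {φ | ∃ d ∈ D, φ = fun a => ff A Q e d a 1}

theorem Psi_real {w : G} (hw : w ∈ P) (hwe : ∀ x, w * e x * w⁻¹ = e ![x 1, x 0]) {ψ : (A ⊓ Q : Subgroup G) → F}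
    (hψ : ψ ∈ Psi A Q e (cj w E)) : ∃ u ∈ WW A (cj w E), ∀ a, ff A Q e u a = ![ψ a, 0] := by
  induction hψ using Submodule.closure_induction with
  | zero =>
    refine ⟨1, one_mem _, fun a => ?_⟩
    have h1 := (h.ff_eq_zero (one_mem _)).2 (one_mem _)
    rw [h1]
    exact ext2 rfl rfl
  | add x y _ _ hx hy =>
    obtain ⟨u, hu, hux⟩ := hx
    obtain ⟨v, hv, hvy⟩ := hy
    refine ⟨u * v, mul_mem hu hv, fun a => ?_⟩
    rw [h.ff_mul (h.WW_le hw hu) (h.WW_le hw hv), Pi.add_apply, hux, hvy]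
    exact ext2 rfl (add_zero _)
  | smul_mem t φ hφ =>
    obtain ⟨d, hd, rfl⟩ := hφ
    obtain ⟨α, hα, hαt⟩ := h.full t
    have hdU := h.E_le hw hd
    have h1 := h.conj_mem_WW hα hd
    refine ⟨α * d * α⁻¹ * d⁻¹, mul_mem h1 (inv_mem (h.D_le_WW hd)), fun a => ?_⟩
    rw [h.ff_mul (h.WW_le hw h1) (inv_mem hdU), Pi.add_apply, h.ff_conj hdU hα hαt]
    have h2 : ff A Q e d⁻¹ a = ff A Q e d a := by
      rw [inv_eq_of_mul_eq_one_left (h.U_sq d hdU)]
    have h3 := h.ff_zero hw hwe hd a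
    have hF2 : ∀ x : F, x + x = 0 := by
      intro x
      have h4 := h.Vsq _ (h.e_mem ![x, 0])
      rw [← h.e_add, ← h.e_zero] at h4
      have h5 := congrFun (h.e_inj h4) 0
      simpa using h5
    rw [h2]
    refine ext2 ?_ ?_
    · show ff A Q e d a 0 + t * ff A Q e d a 1 + ff A Q e d a 0 = (t • fun a => ff A Q e d a 1) a
      rw [h3, zero_add, add_zero]
      rfl
    · show ff A Q e d a 1 + ff A Q e d a 1 = 0
      exact hF2 _

variable [Finite G] [Finite F]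

theorem card_psi_le {w : G} (hw : w ∈ P) (hwe : ∀ x, w * e x * w⁻¹ = e ![x 1, x 0]) :
    (centralizer ((cj w E : Subgroup G) : Set G)).relIndex (A ⊓ Q) ≤ Nat.card (Psi A Q e (cj w E)) := by
  have hadd : ∀ ψ ∈ Psi A Q e (cj w E), ∀ a b : (A ⊓ Q : Subgroup G), ψ (a * b) = ψ a + ψ b := by
    intro ψ hψ
    induction hψ using Submodule.span_induction with
    | mem φ hφ =>
      obtain ⟨d, hd, rfl⟩ := hφ
      intro a b
      show ff A Q e d (a * b) 1 = _
      rw [h.ff_act (h.E_le hw hd)]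
      rfl
    | zero => intro a b; simp
    | add x y _ _ hx hy =>
      intro a b
      simp only [Pi.add_apply, hx, hy]
      ring
    | smul t x _ hx =>
      intro a b
      simp only [Pi.smul_apply, hx, smul_add]
  let ev : (A ⊓ Q : Subgroup G) →* Multiplicative (Module.Dual F (Psi A Q e (cj w E))) :=
    MonoidHom.mk' (fun a => Multiplicative.ofAdd
      ({ toFun := fun ψ => (ψ : (A ⊓ Q : Subgroup G) → F) a
         map_add' := fun _ _ => rfl
         map_smul' := fun _ _ => rfl } : Psi A Q e (cj w E) →ₗ[F] F)) (by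
      intro a b
      refine congrArg Multiplicative.ofAdd ?_
      ext ψ
      exact hadd ψ ψ.2 a b)
  have hker : ev.ker = (centralizer ((cj w E : Subgroup G) : Set G)).subgroupOf (A ⊓ Q) := by
    ext a
    rw [MonoidHom.mem_ker, mem_subgroupOf]
    constructor
    · intro h1
      refine mem_centralizer_iff.2 fun d hd => ?_
      have h2 : (fun a => ff A Q e d a 1) ∈ Psi A Q e (cj w E) := Submodule.subset_span ⟨d, hd, rfl⟩
      have h3 := LinearMap.congr_fun (congrArg Multiplicative.toAdd h1) ⟨_, h2⟩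
      have h4 : ff A Q e d a 1 = 0 := h3
      have h5 : ff A Q e d a = 0 := ext2 (h.ff_zero hw hwe hd a) h4
      have h6 := h.e_co (h.ff_mem (h.E_le hw hd) a)
      have h7 : (a : G) * d * (a : G)⁻¹ * d⁻¹ = 1 := by
        rw [← h6]
        show e (ff A Q e d a) = 1
        rw [h5]
        exact h.e_zero
      rw [mul_inv_eq_one, mul_inv_eq_iff_eq_mul] at h7
      exact h7.symm
    · intro h1
      refine congrArg Multiplicative.ofAdd (?_ : _ = (0 : Module.Dual F (Psi A Q e (cj w E))))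
      ext ⟨ψ, hψ⟩
      show ψ a = 0
      induction hψ using Submodule.span_induction with
      | mem φ hφ =>
        obtain ⟨d, hd, rfl⟩ := hφ
        show co e _ 1 = 0
        have h2 := mem_centralizer_iff.1 h1 d hd
        rw [← h2, mul_inv_cancel_right, mul_inv_cancel, h.co_one]
        rfl
      | zero => rfl
      | add x y _ _ hx hy =>
        rw [Pi.add_apply, hx, hy, add_zero]
      | smul t x _ hx =>
        rw [Pi.smul_apply, hx, smul_zero]
  have h1 : Nat.card (Module.Dual F (Psi A Q e (cj w E))) = Nat.card (Psi A Q e (cj w E)) := by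
    have : Fintype F := Fintype.ofFinite F
    rw [Module.natCard_eq_pow_finrank (K := F), Module.natCard_eq_pow_finrank (K := F) (V := Psi A Q e (cj w E)),
      Subspace.dual_finrank_eq]
  rw [← h1, relIndex, ← hker, Subgroup.index_ker]
  have : Finite (Module.Dual F (Psi A Q e (cj w E))) := by
    have : Finite (Psi A Q e (cj w E) → F) := inferInstance
    exact Finite.of_injective (fun (f : Module.Dual F (Psi A Q e (cj w E))) => (f : Psi A Q e (cj w E) → F))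
      DFunLike.coe_injective
  exact Subgroup.card_le_card_group _

/-- `|W : C_W(A₀)| ≥ |Φ| |Ψ|` -/
theorem card_W {w : G} (hw : w ∈ P) (hwe : ∀ x, w * e x * w⁻¹ = e ![x 1, x 0]) :
    Nat.card (h.homD w hw).range * Nat.card (Psi A Q e (cj w E)) ≤ cidx (WW A (cj w E)) (A ⊓ Q) := by
  rw [h.cidx_eq (h.WW_le hw), ← Nat.card_prod]
  have key : ∀ p : (h.homD w hw).range × Psi A Q e (cj w E),
      Multiplicative.ofAdd (fun a : (A ⊓ Q : Subgroup G) => ![(p.2 : (A ⊓ Q : Subgroup G) → F) a, Multiplicative.toAdd (p.1 : Multiplicative ((A ⊓ Q : Subgroup G) → F)) a]) ∈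
        (h.hom (h.WW_le hw)).range := by
    rintro ⟨⟨_, d, rfl⟩, ψ, hψ⟩
    obtain ⟨u, hu, huψ⟩ := h.Psi_real hw hwe hψ
    refine ⟨⟨u * d, mul_mem hu (h.D_le_WW d.2)⟩, ?_⟩
    rw [h.hom_apply]
    refine congrArg Multiplicative.ofAdd ?_
    funext a
    show ff A Q e (u * d) a = _
    rw [h.ff_mul (h.WW_le hw hu) (h.E_le hw d.2), Pi.add_apply, huψ]
    refine ext2 ?_ ?_
    · show ψ a + ff A Q e d a 0 = ψ a
      rw [h.ff_zero hw hwe d.2, add_zero]
    · show 0 + ff A Q e d a 1 = ff A Q e d a 1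
      rw [zero_add]
  refine Nat.card_le_card_of_injective (fun p => (⟨_, key p⟩ : (h.hom (h.WW_le hw)).range)) ?_
  rintro ⟨⟨φ, hφ⟩, ψ, hψ⟩ ⟨⟨φ', hφ'⟩, ψ', hψ'⟩ heq
  have h1 := congrArg (fun x => Multiplicative.toAdd (x : Multiplicative ((A ⊓ Q : Subgroup G) → Fin 2 → F)))
    (congrArg Subtype.val heq)
  have h2 : ∀ a, ![ψ a, Multiplicative.toAdd φ a] = ![ψ' a, Multiplicative.toAdd φ' a] := fun a => congrFun h1 a
  have h3 : ψ = ψ' := funext fun a => congrFun (h2 a) 0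
  have h4 : φ = φ' := congrArg Multiplicative.ofAdd (funext fun a => congrFun (h2 a) 1)
  subst h3 h4
  rfl

/-- `A₀ ≰ C(D)` ⟹ `|W : C_W(A₀)| > |A₀ : C_{A₀}(D)|`. -/
theorem lt_W {w : G} (hw : w ∈ P) (hwe : ∀ x, w * e x * w⁻¹ = e ![x 1, x 0])
    (hn : ¬ A ⊓ Q ≤ centralizer ((cj w E : Subgroup G) : Set G)) :
    (centralizer ((cj w E : Subgroup G) : Set G)).relIndex (A ⊓ Q) < cidx (WW A (cj w E)) (A ⊓ Q) := by
  refine lt_of_lt_of_le ?_ (h.card_W hw hwe)
  have h1 := h.card_psi_le hw hwe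
  have hpos : 0 < (centralizer ((cj w E : Subgroup G) : Set G)).relIndex (A ⊓ Q) := Nat.pos_of_ne_zero (rel_ne _ _)
  have h2 : 1 < Nat.card (h.homD w hw).range := by
    have : Nontrivial (h.homD w hw).range := by
      rw [Subgroup.nontrivial_iff_ne_bot]
      intro hb
      apply hn
      intro a ha
      rw [mem_centralizer_iff]
      intro d hd
      have h3 : h.homD w hw ⟨d, hd⟩ ∈ (h.homD w hw).range := ⟨_, rfl⟩
      rw [hb, mem_bot] at h3
      have h4 : ff A Q e d ⟨a, ha⟩ 1 = 0 := congrFun (congrArg Multiplicative.toAdd h3) ⟨a, ha⟩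
      have h5 : ff A Q e d ⟨a, ha⟩ = 0 := ext2 (h.ff_zero hw hwe hd _) h4
      have h6 := h.e_co (h.ff_mem (h.E_le hw hd) ⟨a, ha⟩)
      have h7 : a * d * a⁻¹ * d⁻¹ = 1 := by
        have h8 : e (ff A Q e d ⟨a, ha⟩) = a * d * a⁻¹ * d⁻¹ := h6
        rw [← h8, h5]
        exact h.e_zero
      rw [mul_inv_eq_one, mul_inv_eq_iff_eq_mul] at h7
      exact h7.symm
    exact Finite.one_lt_card
  calc (centralizer ((cj w E : Subgroup G) : Set G)).relIndex (A ⊓ Q)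
      < Nat.card (h.homD w hw).range * (centralizer ((cj w E : Subgroup G) : Set G)).relIndex (A ⊓ Q) := by nlinarith
    _ ≤ _ := Nat.mul_le_mul_left _ h1

/-! ### The counting -/

/-- `R = {e (a, 0)}` -/
theorem mem_of_comm {v : Fin 2 → F} (hc : ∀ a ∈ A, a * e v = e v * a) : v 1 = 0 := by
  obtain ⟨a, ha, hae⟩ := h.full 1
  have h1 := hae v
  rw [hc a ha, mul_inv_cancel_right] at h1
  have h2 := congrFun (h.e_inj h1) 0
  have h3 : v 0 = v 0 + 1 * v 1 := h2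
  rw [one_mul] at h3
  exact left_eq_add.1 h3

theorem cidx_V_A : Nat.card F ≤ cidx V A := by
  -- the cosets of `e (0, b)` are different
  have h1 : ∀ b : F, e ![0, b] ∈ V := fun b => h.e_mem _
  rw [cidx, relIndex]
  have hfin : Finite (V ⧸ (centralizer (A : Set G)).subgroupOf V) := inferInstance
  refine Nat.card_le_card_of_injective (fun b : F => (QuotientGroup.mk (⟨e ![0, b], h1 b⟩ : V) : V ⧸ (centralizer (A : Set G)).subgroupOf V)) ?_
  intro b b' hbb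
  have h2 := QuotientGroup.eq.1 hbb
  rw [mem_subgroupOf] at h2
  have h3 : (e ![0, b])⁻¹ * e ![0, b'] = e ![0, b + b'] := by
    rw [inv_eq_of_mul_eq_one_left (h.Vsq _ (h1 b)), ← h.e_add]
    congr 1
    exact ext2 (add_zero _) rfl
  have h4 : e ![0, b + b'] ∈ centralizer (A : Set G) := by rw [← h3]; exact h2
  have h5 := h.mem_of_comm (v := ![0, b + b']) fun a ha => mem_centralizer_iff.1 h4 a ha
  have h6 : b + b' = 0 := h5
  have hF2 : b' + b' = 0 := by
    have h4 := h.Vsq _ (h.e_mem ![b', 0])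
    rw [← h.e_add, ← h.e_zero] at h4
    have h5 := congrFun (h.e_inj h4) 0
    simpa using h5
  calc b = b + (b' + b') := by rw [hF2, add_zero]
    _ = b + b' + b' := (add_assoc _ _ _).symm
    _ = b' := by rw [h6, zero_add]

/-- `|A : A ∩ Q| ≤ q` -/
theorem rel_A : (A ⊓ Q).relIndex A ≤ Nat.card F := by
  classical
  let τ : A → F := fun a => (h.act a a.2).choose
  have hτ : ∀ a : A, ∀ x, (a : G) * e x * (a : G)⁻¹ = e ![x 0 + τ a * x 1, x 1] := fun a => (h.act a a.2).choose_spec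
  rw [relIndex]
  refine Nat.card_le_card_of_injective (fun c : A ⧸ (A ⊓ Q).subgroupOf A => τ c.out) ?_
  intro c c' hcc
  have h1 : (c.out)⁻¹ * c'.out ∈ (A ⊓ Q).subgroupOf A := by
    rw [mem_subgroupOf]
    refine ⟨((c.out)⁻¹ * c'.out).2, h.AQ ⟨((c.out)⁻¹ * c'.out).2, mem_centralizer_iff.2 fun v hv => ?_⟩⟩
    obtain ⟨x, rfl⟩ := (h.mem_iff v).1 hv
    have h2 := hτ c.out x
    have h3 := hτ c'.out x
    have hcc' : τ c.out = τ c'.out := hcc
    rw [hcc', ← h3] at h2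
    show e x * ((c.out : G)⁻¹ * (c'.out : G)) = (c.out : G)⁻¹ * (c'.out : G) * e x
    calc e x * ((c.out : G)⁻¹ * (c'.out : G)) = (c.out : G)⁻¹ * ((c.out : G) * e x * (c.out : G)⁻¹) * (c'.out : G) := by group
      _ = (c.out : G)⁻¹ * ((c'.out : G) * e x * (c'.out : G)⁻¹) * (c'.out : G) := by rw [h2]
      _ = _ := by group
  have h2 : (QuotientGroup.mk c.out : A ⧸ (A ⊓ Q).subgroupOf A) = QuotientGroup.mk c'.out := QuotientGroup.eq.2 h1
  rwa [QuotientGroup.out_eq', QuotientGroup.out_eq'] at h2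

theorem no_conj {g : G} (hg : g ∈ P) {K : Subgroup G} (hK : K ≤ Q) (hKe : ElM (cj g E) K) :
    cidx K (cj g E) ≤ cidx (cj g E) K := by
  have key : ∀ X Y : Subgroup G, cidx (cj g X) (cj g Y) = cidx X Y := by
    intro X Y
    rw [cidx, cidx, ← cj_centralizer]
    exact Subgroup.relIndex_pointwise_smul (MulAut.conj g) _ _
  have h1 := h.no (cj g⁻¹ K) (by
    have h2 : cj g⁻¹ K ≤ cj g⁻¹ Q := cj_le_cj.2 hK
    rwa [cj_eq_iff.2 (h.Qn (inv_mem hg))] at h2) ⟨by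
      intro a ha b hb
      have h2 := hKe.1 _ (mem_cj.1 ha) _ (mem_cj.1 hb)
      rw [← cj_centralizer, mem_cj] at h2
      have e : a * b * a⁻¹ * b⁻¹ = g⁻¹ * (g⁻¹⁻¹ * a * g⁻¹ * (g⁻¹⁻¹ * b * g⁻¹) * (g⁻¹⁻¹ * a * g⁻¹)⁻¹ *
        (g⁻¹⁻¹ * b * g⁻¹)⁻¹) * g := by group
      rw [e]
      exact h2, by
      intro a ha
      have h2 := hKe.2 _ (mem_cj.1 ha)
      rw [← cj_centralizer, mem_cj] at h2
      have e : a * a = g⁻¹ * (g⁻¹⁻¹ * a * g⁻¹ * (g⁻¹⁻¹ * a * g⁻¹)) * g := by group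
      rw [e]
      exact h2⟩
  rw [← key, ← key E, cj_cj, mul_inv_cancel, cj_one] at h1
  exact h1

/-- chain: `|K : C_K(U)| ≤ |U : C_U(K)|` -/
theorem chain {K : Subgroup G} (hK : K ≤ Q) (hKe : ElM (UU P V E) K) : cidx K (UU P V E) ≤ cidx (UU P V E) K := by
  have h1 := lemma1_pow (𝓛 := Fam P V E) (E := K) (a := 1) (b := 1) (by
    rintro L (rfl | ⟨g, hg, rfl⟩) B hB
    · rw [pow_one, pow_one, cidx_eq_one_iff.2 ((hB.trans hK).trans h.QV)]
      exact cidx_pos _ _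
    · rw [pow_one, pow_one]
      exact h.no_conj hg (hB.trans hK) ((hKe.mono hB).low (h.E_le hg)))
  rwa [pow_one, pow_one] at h1

/-- the first half: `A ∩ Q` centralises `D = E^w` and `C_U(A ∩ Q) = V C_U(A)`. -/
theorem main {w : G} (hw : w ∈ P) (hwe : ∀ x, w * e x * w⁻¹ = e ![x 1, x 0]) :
    ∀ d ∈ cj w E, ∃ v ∈ V, v⁻¹ * d ∈ centralizer (A : Set G) := by
  set U := UU P V E with hU
  set A0 := A ⊓ Q with hA0
  have hA0el : ElM U A0 := h.Ael.mono inf_le_left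
  have hq : 0 < Nat.card F := Nat.card_pos
  -- `|A : C_A(U)| = |A : A₀| |A₀ : C_{A₀}(U)|`
  have h1 : cidx A U ≤ Nat.card F * cidx A0 U := by
    rw [cidx_chain (A := A) (B := U) (E := A0) inf_le_left
      (le_inf inf_le_left (le_trans (inf_le_inf_left _ (centralizer_le h.V_le)) h.AQ))]
    exact Nat.mul_le_mul_right _ h.rel_A
  -- `|U : C_U(A)| = |U : C_U(A₀)| |C_U(A₀) : C_U(A)|`
  have h2 := cidx_chain_right U (B := A) (E := A0) inf_le_left
  have hV0 : V ≤ U ⊓ centralizer (A0 : Set G) := le_inf h.V_le (by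
    rw [Subgroup.le_centralizer_iff]
    exact inf_le_right.trans h.QV)
  have h3 : Nat.card F ≤ (U ⊓ centralizer (A : Set G)).relIndex (U ⊓ centralizer (A0 : Set G)) := by
    refine h.cidx_V_A.trans ?_
    have h4 : cidx V A = (U ⊓ centralizer (A : Set G)).relIndex V := by
      rw [cidx, ← Subgroup.inf_relIndex_right (centralizer (A : Set G)) V,
        ← Subgroup.inf_relIndex_right (U ⊓ centralizer (A : Set G)) V]
      congr 1
      apply le_antisymm
      · exact le_inf (le_inf (inf_le_right.trans h.V_le) inf_le_left) inf_le_right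
      · exact le_inf (inf_le_left.trans inf_le_right) inf_le_right
    rw [h4]
    exact Subgroup.relIndex_le_of_le_right hV0 (rel_ne _ _)
  have h4 := h.off
  -- `|U : C_U(A₀)| ≤ |A₀ : C_{A₀}(U)|`
  have h5 : cidx U A0 ≤ cidx A0 U := by
    have h6 : cidx U A0 * Nat.card F ≤ cidx A0 U * Nat.card F := by
      calc cidx U A0 * Nat.card F ≤ cidx U A := by rw [h2]; exact Nat.mul_le_mul_left _ h3
        _ ≤ cidx A U := h4
        _ ≤ Nat.card F * cidx A0 U := h1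
        _ = _ := mul_comm _ _
    exact Nat.le_of_mul_le_mul_right h6 hq
  have h6 := h.chain (K := A0) inf_le_right hA0el
  have h7 : cidx U A0 = cidx A0 U := le_antisymm h5 h6
  -- `A₀` centralises `D`
  have hD : A0 ≤ centralizer ((cj w E : Subgroup G) : Set G) := by
    by_contra hn
    set K1 := A0 ⊓ centralizer ((cj w E : Subgroup G) : Set G) with hK1
    have hDU : cj w E ≤ U := h.E_le hw
    have e1 : cidx A0 U = K1.relIndex A0 * cidx K1 U := cidx_chain inf_le_left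
      (inf_le_inf_left _ (centralizer_le hDU))
    have e2 := cidx_chain_right U (B := A0) (E := K1) inf_le_left
    have e3 := h.chain (K := K1) (inf_le_left.trans inf_le_right) (hA0el.mono inf_le_left)
    have e4 := h.lt_W hw hwe hn
    have hWU : WW A (cj w E) ≤ U := h.WW_le hw
    have hWK : WW A (cj w E) ≤ U ⊓ centralizer (K1 : Set G) := by
      refine le_inf hWU (sSup_le ?_)
      rintro L ⟨a, ha, rfl⟩ x hx
      rw [mem_centralizer_iff]
      intro k hk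
      have h8 := mem_centralizer_iff.1 hk.2 _ (mem_cj.1 hx)
      -- `a⁻¹ k a = k c`, `c` centralises `y = a⁻¹ x a ∈ U`
      have hyU : a⁻¹ * x * a ∈ U := h.E_le hw (mem_cj.1 hx)
      have h9 := mem_centralizer_iff.1 (h.Ael.1 _ (inv_mem hk.1.1) _ (inv_mem ha)) _ hyU
      -- `k y k⁻¹ = y`
      have h10 : k * x = x * k := by
        have e5 : k * (a⁻¹ * x * a) * k⁻¹ = a⁻¹ * x * a := by rw [← h8, mul_inv_cancel_right]
        have e6 : k * x * k⁻¹ = a * (k * (k⁻¹ * a⁻¹ * k⁻¹⁻¹ * a⁻¹⁻¹ * (a⁻¹ * x * a)) * a⁻¹ * k⁻¹ * a) * a⁻¹ := by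
          group
        have e7 : k * x * k⁻¹ = x := by
          rw [e6, ← h9]
          have e8 : k * (a⁻¹ * x * a * (k⁻¹ * a⁻¹ * k⁻¹⁻¹ * a⁻¹⁻¹)) * a⁻¹ * k⁻¹ * a = k * (a⁻¹ * x * a) * k⁻¹ := by
            group
          rw [e8, e5]
          group
        rwa [mul_inv_eq_iff_eq_mul] at e7
      exact h10
    have e5 : cidx (WW A (cj w E)) A0 ≤ (U ⊓ centralizer (A0 : Set G)).relIndex (U ⊓ centralizer (K1 : Set G)) := by
      have e6 : cidx (WW A (cj w E)) A0 = (U ⊓ centralizer (A0 : Set G)).relIndex (WW A (cj w E)) := by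
        rw [cidx, ← Subgroup.inf_relIndex_right (centralizer (A0 : Set G)) (WW A (cj w E)),
          ← Subgroup.inf_relIndex_right (U ⊓ centralizer (A0 : Set G)) (WW A (cj w E))]
        congr 1
        apply le_antisymm
        · exact le_inf (le_inf (inf_le_right.trans hWU) inf_le_left) inf_le_right
        · exact le_inf (inf_le_left.trans inf_le_right) inf_le_right
      rw [e6]
      exact Subgroup.relIndex_le_of_le_right hWK (rel_ne _ _)
    have e7 : (centralizer ((cj w E : Subgroup G) : Set G)).relIndex A0 = K1.relIndex A0 := by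
      rw [hK1, inf_comm, Subgroup.inf_relIndex_right]
    rw [e7] at e4
    have e8 := lt_of_lt_of_le e4 e5
    have e9 : 0 < cidx K1 U := cidx_pos _ _
    have e10 : cidx A0 U < cidx U A0 := by
      rw [e1, e2, mul_comm]
      calc cidx K1 U * K1.relIndex A0 < cidx K1 U * _ := Nat.mul_lt_mul_of_pos_left e8 e9
        _ ≤ cidx U K1 * _ := Nat.mul_le_mul_right _ e3
    exact absurd h7 e10.ne'
  -- `C_U(A₀) = V C_U(A)`
  have h8 : (U ⊓ centralizer (A : Set G)).relIndex (U ⊓ centralizer (A0 : Set G)) ≤ Nat.card F := by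
    have h9 : cidx U A0 * (U ⊓ centralizer (A : Set G)).relIndex (U ⊓ centralizer (A0 : Set G)) ≤
        cidx U A0 * Nat.card F := by
      rw [← h2]
      calc cidx U A ≤ cidx A U := h4
        _ ≤ Nat.card F * cidx A0 U := h1
        _ = _ := by rw [h7, mul_comm]
    exact Nat.le_of_mul_le_mul_left h9 (cidx_pos _ _)
  -- `|V : C_V(A)| = q` and `C_U(A₀) = V C_U(A)`
  set CA := U ⊓ centralizer (A : Set G) with hCA
  set C0 := U ⊓ centralizer (A0 : Set G) with hC0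
  have hsup : CA ⊔ V ≤ C0 := sup_le (inf_le_inf_left _ (centralizer_le inf_le_left)) hV0
  have hVn : V ≤ normalizer (CA : Set G) := by
    refine le_trans ?_ (centralizer_le_normalizer _)
    intro v hv
    rw [mem_centralizer_iff]
    intro c hc
    exact h.U_comm' hc.1 (h.V_le hv)
  have h10 : Nat.card F ≤ CA.relIndex (CA ⊔ V) := by
    refine h.cidx_V_A.trans ?_
    have h11 : cidx V A = CA.relIndex V := by
      rw [cidx, ← Subgroup.inf_relIndex_right (centralizer (A : Set G)) V,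
        ← Subgroup.inf_relIndex_right CA V]
      congr 1
      apply le_antisymm
      · exact le_inf (le_inf (inf_le_right.trans h.V_le) inf_le_left) inf_le_right
      · exact le_inf (inf_le_left.trans inf_le_right) inf_le_right
    rw [h11]
    exact Subgroup.relIndex_le_of_le_right le_sup_right (rel_ne _ _)
  have h11 : CA ⊔ V = C0 := by
    apply Subgroup.eq_of_le_of_card_ge hsup
    have e1 := card_rel (le_sup_left : CA ≤ CA ⊔ V)
    have e2 := card_rel (le_sup_left.trans hsup : CA ≤ C0)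
    rw [← e1, ← e2]
    exact Nat.mul_le_mul_left _ (h8.trans h10)
  intro d hd
  have hdC : d ∈ C0 := ⟨h.E_le hw hd, (Subgroup.le_centralizer_iff.1 hD) hd⟩
  rw [← h11, ← SetLike.mem_coe, sup_comm, coe_mul_of_left_le_normalizer_right V CA hVn] at hdC
  obtain ⟨v, hv, c, hc, rfl⟩ := hdC
  refine ⟨v, hv, ?_⟩
  show v⁻¹ * (v * c) ∈ _
  rw [inv_mul_cancel_left]
  exact hc.2

/-- **LEMMA U.** -/
theorem lemU : ∀ x ∈ E, ∀ t ∈ Q, t * x = x * t := by
  obtain ⟨w, hw, hwe⟩ := h.swap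
  have hA : A ≤ normalizer (Q : Set G) := h.AP.trans h.Qn
  have key : ∀ d ∈ cj w E, ∀ t ∈ Q, t * d = d * t := by
    intro d hd t ht
    obtain ⟨v, hv, hvd⟩ := h.main hw hwe d hd
    obtain ⟨α, hα, hαt⟩ := h.full 1
    -- `[α, d] ∈ V`, more precisely `α d α⁻¹ = r d` with `r ∈ V`
    have e1 : α * (v⁻¹ * d) * α⁻¹ = v⁻¹ * d := by
      rw [mem_centralizer_iff.1 hvd α hα, mul_inv_cancel_right]
    have hαv : α * v * α⁻¹ ∈ V := (mem_normalizer_iff.1 (h.Vn (h.AP hα)) v).1 hv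
    set r := α * v * α⁻¹ * v⁻¹ with hr
    have hrV : r ∈ V := mul_mem hαv (inv_mem hv)
    have e2 : α * d * α⁻¹ = r * d := by
      calc α * d * α⁻¹ = (α * v * α⁻¹) * (α * (v⁻¹ * d) * α⁻¹) := by group
        _ = (α * v * α⁻¹) * (v⁻¹ * d) := by rw [e1]
        _ = r * d := by rw [hr]; group
    set t' := α * t * α⁻¹ with ht'
    have htQ : t' ∈ Q := (mem_normalizer_iff.1 (hA hα) t).1 ht
    obtain ⟨b, hb⟩ := h.D_co hw hwe hd ht
    obtain ⟨b', hb'⟩ := h.D_co hw hwe hd htQ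
    -- `[t', r d] = [t', d]`
    have e3 : t' * (r * d) * t'⁻¹ * (r * d)⁻¹ = t' * d * t'⁻¹ * d⁻¹ := by
      have f1 := mem_centralizer_iff.1 (h.QV htQ) r hrV
      have hc : t' * d * t'⁻¹ * d⁻¹ ∈ V := by rw [hb']; exact h.e_mem _
      have f2 : r * (t' * d * t'⁻¹ * d⁻¹) = t' * d * t'⁻¹ * d⁻¹ * r :=
        (mem_centralizer_iff.1 (h.QV (h.VQ hc)) r hrV)
      calc t' * (r * d) * t'⁻¹ * (r * d)⁻¹ = (t' * r) * d * t'⁻¹ * d⁻¹ * r⁻¹ := by group
        _ = (r * t') * d * t'⁻¹ * d⁻¹ * r⁻¹ := by rw [f1]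
        _ = r * (t' * d * t'⁻¹ * d⁻¹) * r⁻¹ := by group
        _ = (t' * d * t'⁻¹ * d⁻¹) * r * r⁻¹ := by rw [f2]
        _ = _ := by group
    have e4 : α * (t * d * t⁻¹ * d⁻¹) * α⁻¹ = t' * d * t'⁻¹ * d⁻¹ := by
      rw [← e3, ← e2, ht']
      group
    rw [hb, hb', hαt] at e4
    have e5 := congrFun (h.e_inj e4) 0
    have e6 : 0 + 1 * b = 0 := e5
    rw [zero_add, one_mul] at e6
    rw [e6] at hb
    have e7 : e ![0, 0] = 1 := by
      rw [← h.e_zero]
      congr 1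
      exact ext2 rfl rfl
    rw [e7, mul_inv_eq_one, mul_inv_eq_iff_eq_mul] at hb
    exact hb
  intro x hx t ht
  have h1 := key (w * x * w⁻¹) (conj_mem_cj hx) (w * t * w⁻¹) ((mem_normalizer_iff.1 (h.Qn hw) t).1 ht)
  have h2 := congrArg (fun s => w⁻¹ * s * w) h1
  have e1 : w⁻¹ * (w * t * w⁻¹ * (w * x * w⁻¹)) * w = t * x := by group
  have e2 : w⁻¹ * (w * x * w⁻¹ * (w * t * w⁻¹)) * w = x * t := by group
  simp only [e1, e2] at h2
  exact h2

end Hyp

/-- maximality: `|U : C_U(A)| ≤ |A : C_A(U)|` -/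
theorem off_of_max [Finite G] {U A Q : Subgroup G} (Uel : El U) (UQ : U ≤ Q) (Ael : El A)
    (hAQ : A ⊓ centralizer (U : Set G) ≤ Q) (max : ∀ D : Subgroup G, D ≤ Q → El D → Nat.card D ≤ Nat.card A) :
    cidx U A ≤ cidx A U := by
  set D := A ⊓ centralizer (U : Set G) with hD
  have hDQ : D ≤ Q := hAQ
  have hDU : U ≤ centralizer (D : Set G) := Subgroup.le_centralizer_iff.1 inf_le_right
  have hel : El (D ⊔ U) := by
    have hmem : ∀ x ∈ D ⊔ U, ∃ d ∈ D, ∃ u ∈ U, x = d * u := by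
      intro x hx
      rw [← SetLike.mem_coe, coe_mul_of_right_le_normalizer_left D U (hDU.trans (centralizer_le_normalizer _))] at hx
      obtain ⟨d, hd, u, hu, rfl⟩ := hx
      exact ⟨d, hd, u, hu, rfl⟩
    have hc : ∀ d ∈ D, ∀ u ∈ U, d * u = u * d := fun d hd u hu => (mem_centralizer_iff.1 (hDU hu) d hd)
    constructor
    · intro x hx y hy
      obtain ⟨d, hd, u, hu, rfl⟩ := hmem x hx
      obtain ⟨d', hd', u', hu', rfl⟩ := hmem y hy
      have e1 := Ael.1 d hd.1 d' hd'.1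
      have e2 := Uel.1 u hu u' hu'
      have e3 := hc d' hd' u hu
      have e4 := hc d hd u' hu'
      calc d * u * (d' * u') = d * (u * d') * u' := by group
        _ = d * (d' * u) * u' := by rw [e3]
        _ = (d * d') * (u * u') := by group
        _ = (d' * d) * (u' * u) := by rw [e1, e2]
        _ = d' * (d * u') * u := by group
        _ = d' * (u' * d) * u := by rw [e4]
        _ = _ := by group
    · intro x hx
      obtain ⟨d, hd, u, hu, rfl⟩ := hmem x hx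
      have e3 := hc d hd u hu
      calc d * u * (d * u) = d * (u * d) * u := by group
        _ = d * (d * u) * u := by rw [e3]
        _ = (d * d) * (u * u) := by group
        _ = 1 := by rw [Ael.2 d hd.1, Uel.2 u hu, one_mul]
  have h1 := max _ (sup_le hDQ UQ) hel
  -- `|D U| |D ∩ U| = |D| |U|`
  have h2 : Nat.card ↥(D ⊔ U) * Nat.card ↥(D ⊓ U) = Nat.card D * Nat.card U :=
    Cfsg.Agent.Omega.NoFF.ThmJ.card_sup_mul (hDU.trans (centralizer_le_normalizer _))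
  have h3 : Nat.card ↥(D ⊓ U) ≤ Nat.card ↥(U ⊓ centralizer (A : Set G)) := by
    refine Subgroup.card_le_of_le ?_
    rintro x ⟨hx1, hx2⟩
    exact ⟨hx2, mem_centralizer_iff.2 fun a ha => Ael.1 a ha x hx1.1⟩
  have h4 : Nat.card ↥(U ⊓ centralizer (A : Set G)) * cidx U A = Nat.card U := by
    rw [← cidx_inf U A]
    exact card_rel inf_le_left
  have h5 : Nat.card D * cidx A U = Nat.card A := by
    rw [← cidx_inf A U]
    exact card_rel inf_le_left
  have hpD : 0 < Nat.card D := Nat.card_pos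
  have hpU : 0 < Nat.card ↥(U ⊓ centralizer (A : Set G)) := Nat.card_pos
  -- `|D| |U| ≤ |A| |C_U(A)|`
  have h6 : Nat.card D * Nat.card U ≤ Nat.card A * Nat.card ↥(U ⊓ centralizer (A : Set G)) := by
    rw [← h2]; exact Nat.mul_le_mul h1 h3
  rw [← h4, ← h5] at h6
  have h7 : Nat.card D * Nat.card ↥(U ⊓ centralizer (A : Set G)) * cidx U A ≤
      Nat.card D * Nat.card ↥(U ⊓ centralizer (A : Set G)) * cidx A U := by
    calc _ = Nat.card D * (Nat.card ↥(U ⊓ centralizer (A : Set G)) * cidx U A) := by ring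
      _ ≤ _ := h6
      _ = _ := by ring
  exact Nat.le_of_mul_le_mul_left h7 (Nat.mul_pos hpD hpU)

end Cfsg.Agent.Omega.NO3S.Fld.LemU

end

section


/-!
# NO-3S, natural lines: (T6), (T7), (F2), (F2'), (STAR) (TEXT 44-1, bb OMEGA #13339)

Hypotheses `PL S P V Z` (`PointTI.lean`), moreover

* `hf : ¬ kx V Z ≤ C_G(V)` : this is (F1);
* `OmQ S V` : `Ω₁(Z(C_S(V))) ≤ V`; it follows from `J(S) ≰ C_G(V)` (`PL.omQ` = (T6)).

Results: `PL.K_full`, `PL.K_trans` (`kx V Z` induces all transvections of `V` with centre `Z`), `PL.swap`,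
`PL.IV_eq` (T7), `PL.cent_IV`, `PL.mem_V_of_comm` (CLAIM), `PL.F2`, `PL.F2_cover`, `PL.F2'`, `PL.F2_swap`, `PL.star`.
-/

set_option autoImplicit false
set_option linter.unusedSectionVars false

namespace Cfsg.Agent.Omega.NO3S.PT

open Subgroup Cfsg.Agent.Omega.NoFF.Basic
open Cfsg.Agent.Omega.NoFF.ThmJ (EA MaxEA card_sup_mul)
open scoped Pointwise

variable {G : Type*} [Group G]

/-- `Ω₁(Z(C_S(V))) ≤ V` -/
def OmQ [Finite G] (S : Sylow 2 G) (V : Subgroup G) : Prop :=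
  ∀ y ∈ (S : Subgroup G), y ∈ centralizer (V : Set G) → y * y = 1 →
    (∀ s ∈ (S : Subgroup G), s ∈ centralizer (V : Set G) → s * y = y * s) → y ∈ V

/-- The intersection of all `ws V Y`, `Y` a point on `V`. -/
def IV (V Z : Subgroup G) : Subgroup G := sInf {W | ∃ Y, IsCj Z Y ∧ Y ≤ V ∧ W = ws V Y}

/-- The group generated by all `kx V Y`, `Y` a point on `V`. -/
def XV (V Z : Subgroup G) : Subgroup G := sSup {K | ∃ Y, IsCj Z Y ∧ Y ≤ V ∧ K = kx V Y}

theorem IV_le {V Z Y : Subgroup G} (hY : IsCj Z Y) (hYV : Y ≤ V) : IV V Z ≤ ws V Y := sInf_le ⟨Y, hY, hYV, rfl⟩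

theorem le_XV {V Z Y : Subgroup G} (hY : IsCj Z Y) (hYV : Y ≤ V) : kx V Y ≤ XV V Z := le_sSup ⟨Y, hY, hYV, rfl⟩

theorem kx_le_cent {V X : Subgroup G} : kx V X ≤ centralizer (X : Set G) := by
  intro g hg
  rw [mem_centralizer_iff]
  exact fun x hx => ((mem_kx.1 hg).1 x hx).symm

/-- `N_G(V)` normalises `IV`. -/
theorem normalizer_le_IV (V Z : Subgroup G) : normalizer (V : Set G) ≤ normalizer ((IV V Z : Subgroup G) : Set G) := by
  have key : ∀ g ∈ normalizer (V : Set G), cj g (IV V Z) ≤ IV V Z := by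
    intro g hg
    refine le_sInf ?_
    rintro _ ⟨Y, hY, hYV, rfl⟩
    rw [cj_le_iff, ← ws_cj]
    refine IV_le (hY.cj _) ?_
    rw [cj_le_iff, inv_inv, cj_eq_iff.2 hg]
    exact hYV
  intro g hg
  rw [← cj_eq_iff]
  refine le_antisymm (key g hg) ?_
  rw [le_cj_iff]
  exact key g⁻¹ (inv_mem hg)

/-- `N_G(V)` normalises `XV`. -/
theorem normalizer_le_XV (V Z : Subgroup G) : normalizer (V : Set G) ≤ normalizer ((XV V Z : Subgroup G) : Set G) := by
  have key : ∀ g ∈ normalizer (V : Set G), cj g (XV V Z) ≤ XV V Z := by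
    intro g hg
    rw [cj_le_iff]
    refine sSup_le ?_
    rintro _ ⟨Y, hY, hYV, rfl⟩
    rw [le_cj_iff, inv_inv, ← kx_cj]
    refine le_XV (hY.cj _) ?_
    rw [cj_le_iff, cj_eq_iff.2 (inv_mem hg)]
    exact hYV
  intro g hg
  rw [← cj_eq_iff]
  refine le_antisymm (key g hg) ?_
  rw [le_cj_iff]
  exact key g⁻¹ (inv_mem hg)

namespace PL

variable [Finite G] {S : Sylow 2 G} {P V Z : Subgroup G} (h : PL S P V Z)
include h

theorem isPGroup_of_le {A : Subgroup G} (hA : A ≤ (S : Subgroup G)) : IsPGroup 2 A := S.isPGroup'.to_le hA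

theorem one_lt_card : 1 < Nat.card Z := by
  have := (Subgroup.nontrivial_iff_ne_bot Z).2 h.Zne
  exact Finite.one_lt_card

theorem isCj_self : IsCj Z Z := ⟨1, (cj_one Z).symm⟩

theorem card_pt {X : Subgroup G} (hX : IsCj Z X) : Nat.card X = Nat.card Z := by
  obtain ⟨g, rfl⟩ := hX
  exact card_cj g Z

theorem pt_ne_bot {X : Subgroup G} (hX : IsCj Z X) : ∃ x ∈ X, x ≠ 1 := by
  obtain ⟨g, rfl⟩ := hX
  by_contra hcon
  push Not at hcon
  exact (h.conj g).Zne ((eq_bot_iff_forall _).2 hcon)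

theorem exists_out : ∃ v ∈ V, v ∉ Z := by
  by_contra hcon
  push Not at hcon
  have h1 := Subgroup.card_le_of_le hcon
  have h2 := h.one_lt_card
  rw [h.card] at h1
  nlinarith

/-- every nontrivial element of `V` is in a point on `V` -/
theorem exists_point {v : G} (hv : v ∈ V) (hv1 : v ≠ 1) : ∃ X, IsCj Z X ∧ X ≤ V ∧ v ∈ X := by
  obtain ⟨p, hp, hvp⟩ := h.part v hv hv1
  exact ⟨cj p Z, ⟨p, rfl⟩, h.pt_le hp, hvp⟩

/-- `V = X Y` for two points on `V` -/
theorem exists_mul {X Y : Subgroup G} (hX : IsCj Z X) (hXV : X ≤ V) (hY : IsCj Z Y) (hYV : Y ≤ V) (hne : X ≠ Y)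
    {v : G} (hv : v ∈ V) : ∃ x ∈ X, ∃ y ∈ Y, v = x * y := by
  have hn : Y ≤ normalizer (X : Set G) := by
    refine le_trans ?_ (centralizer_le_normalizer _)
    intro y hy
    rw [mem_centralizer_iff]
    exact fun x hx => h.Vcomm (hXV hx) (hYV hy)
  have h1 := card_sup_mul hn
  rw [h.pts_inf hX hY hne, card_bot, mul_one, h.card_pt hX, h.card_pt hY, ← h.card] at h1
  have h2 : X ⊔ Y = V := Subgroup.eq_of_le_of_card_ge (sup_le hXV hYV) h1.ge
  rw [← h2, ← SetLike.mem_coe, coe_mul_of_right_le_normalizer_left X Y hn] at hv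
  obtain ⟨x, hx, y, hy, rfl⟩ := hv
  exact ⟨x, hx, y, hy, rfl⟩

/-- a third point -/
theorem exists_third {X Y : Subgroup G} (hX : IsCj Z X) (hXV : X ≤ V) (hY : IsCj Z Y) (hYV : Y ≤ V) (hne : X ≠ Y) :
    ∃ T, IsCj Z T ∧ T ≤ V ∧ T ≠ X ∧ T ≠ Y := by
  obtain ⟨x, hx, hx1⟩ := h.pt_ne_bot hX
  obtain ⟨y, hy, hy1⟩ := h.pt_ne_bot hY
  have h1 : x * y ∉ X := fun e => hne (h.pts_eq hX hY ((X.mul_mem_cancel_left hx).1 e) hy hy1)
  have h2 : x * y ∉ Y := fun e => hne (h.pts_eq hX hY hx ((Y.mul_mem_cancel_right hy).1 e) hx1)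
  obtain ⟨T, hT, hTV, hxyT⟩ := h.exists_point (V.mul_mem (hXV hx) (hYV hy))
    (fun e => h1 (by rw [e]; exact one_mem _))
  exact ⟨T, hT, hTV, fun e => h1 (e ▸ hxyT), fun e => h2 (e ▸ hxyT)⟩

/-- a second point -/
theorem exists_second {X : Subgroup G} (hX : IsCj Z X) (hXV : X ≤ V) : ∃ T, IsCj Z T ∧ T ≤ V ∧ T ≠ X := by
  obtain ⟨v, hv, hvX⟩ : ∃ v ∈ V, v ∉ X := by
    by_contra hcon
    push Not at hcon
    have h1 := Subgroup.card_le_of_le hcon
    have h2 := h.one_lt_card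
    rw [h.card, h.card_pt hX] at h1
    nlinarith
  obtain ⟨T, hT, hTV, hvT⟩ := h.exists_point hv (fun e => hvX (by rw [e]; exact one_mem _))
  exact ⟨T, hT, hTV, fun e => hvX (e ▸ hvT)⟩

/-- the flag `(X, V)` -/
theorem exists_flag {X : Subgroup G} (hX : IsCj Z X) (hXV : X ≤ V) : ∃ T : Sylow 2 G, PL T P V X := by
  obtain ⟨p, hp, rfl⟩ := h.exists_pt hX hXV
  exact ⟨p • S, h.pt hp⟩

/-! ### The commutator map -/

/-- `s ↦ [s, v]` -/
def dh {v : G} (hv : v ∈ V) : (S : Subgroup G) →* Z where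
  toFun s := ⟨s * v * (s : G)⁻¹ * v⁻¹, h.act s s.2 v hv⟩
  map_one' := by
    apply Subtype.ext
    show (1 : G) * v * (1 : G)⁻¹ * v⁻¹ = 1
    group
  map_mul' s t := by
    apply Subtype.ext
    show (s : G) * t * v * ((s : G) * t)⁻¹ * v⁻¹ = (s * v * (s : G)⁻¹ * v⁻¹) * (t * v * (t : G)⁻¹ * v⁻¹)
    have h1 := h.cen _ (h.act t t.2 v hv) s s.2
    have h2 : (s : G) * t * v * ((s : G) * t)⁻¹ * v⁻¹ =
      (s : G) * (t * v * (t : G)⁻¹ * v⁻¹) * (s : G)⁻¹ * (s * v * (s : G)⁻¹ * v⁻¹) := by group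
    rw [h2, h1, mul_inv_cancel_right]
    exact h.Vcomm (h.ZV (h.act t t.2 v hv)) (h.ZV (h.act s s.2 v hv))

theorem dh_apply {v : G} (hv : v ∈ V) (s : (S : Subgroup G)) : (h.dh hv s : G) = s * v * (s : G)⁻¹ * v⁻¹ := rfl

theorem mem_cent_of {s v : G} (hs : s ∈ (S : Subgroup G)) (hv : v ∈ V) (hvZ : v ∉ Z) (hsv : s * v = v * s) :
    s ∈ centralizer (V : Set G) := by
  rw [mem_centralizer_iff]
  exact fun v' hv' => (h.free s hs v hv hvZ hsv v' hv').symm

theorem dh_eq_one {v : G} (hv : v ∈ V) (hvZ : v ∉ Z) {s : (S : Subgroup G)} :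
    h.dh hv s = 1 ↔ (s : G) ∈ centralizer (V : Set G) := by
  rw [← Subtype.coe_inj, dh_apply, OneMemClass.coe_one, mul_inv_eq_one, mul_inv_eq_iff_eq_mul]
  exact ⟨fun e => h.mem_cent_of s.2 hv hvZ e, fun e => (mem_centralizer_iff.1 e v hv).symm⟩

/-- `|A| ≤ |C_A(V)| |Z|`, with equality only if `[A, v] = Z` -/
theorem card_le {A : Subgroup G} (hA : A ≤ (S : Subgroup G)) {v : G} (hv : v ∈ V) (hvZ : v ∉ Z) :
    Nat.card A = Nat.card (A ⊓ centralizer (V : Set G) : Subgroup G) *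
      Nat.card ((h.dh hv).comp (inclusion hA)).range := by
  have h1 := Subgroup.card_mul_index ((h.dh hv).comp (inclusion hA)).ker
  rw [Subgroup.index_ker] at h1
  rw [← h1]
  congr 1
  refine Nat.card_congr ⟨fun x => ⟨x, ?_⟩, fun x => ⟨⟨x, x.2.1⟩, ?_⟩, fun x => rfl, fun x => rfl⟩
  · refine ⟨(x : A).2, ?_⟩
    exact (h.dh_eq_one hv hvZ (s := inclusion hA x)).1 x.2
  · exact (h.dh_eq_one hv hvZ (s := inclusion hA ⟨x, x.2.1⟩)).2 x.2.2

/-! ### (T6) -/

theorem EA_V : EA V := ⟨fun v hv => mem_centralizer_iff.2 fun w hw => h.Vcomm hw hv,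
  fun v hv => by rw [pow_two]; exact h.Vsq v hv⟩

/-- **(T6)** `Ω₁(Z(C_S(V))) = V` if `J(S)` does not centralise `V`. -/
theorem omQ (hJ : ∃ A : Subgroup G, A ≤ (S : Subgroup G) ∧ MaxEA A ∧ ¬ A ≤ centralizer (V : Set G)) : OmQ S V := by
  obtain ⟨A, hAS, hA, hAV⟩ := hJ
  obtain ⟨v, hv, hvZ⟩ := h.exists_out
  set A1 := A ⊓ centralizer (V : Set G) with hA1
  have hAc : ∀ a ∈ A, ∀ b ∈ A, a * b = b * a := fun a ha b hb => (mem_centralizer_iff.1 (hA.comm ha) b hb).symm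
  have hCV : ∀ w ∈ V, (∀ a ∈ A, a * w = w * a) → w ∈ Z := by
    intro w hw hwA
    by_contra hwZ
    exact hAV fun a ha => h.mem_cent_of (hAS ha) hw hwZ (hwA a ha)
  have hEA1 : EA A1 := hA.toEA.mono inf_le_left
  -- lower bound
  have hlow : Nat.card A1 * Nat.card Z ≤ Nat.card A := by
    have hE : EA (A1 ⊔ V) := hEA1.sup h.EA_V inf_le_right
    have h1 := hA.max _ hE
    have h2 : V ≤ normalizer (A1 : Set G) := by
      refine le_trans ?_ (centralizer_le_normalizer _)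
      exact comm_symm inf_le_right
    have h3 := card_sup_mul h2
    have h4 : Nat.card (A1 ⊓ V : Subgroup G) ≤ Nat.card Z := by
      refine Subgroup.card_le_of_le ?_
      rintro w ⟨hw1, hw2⟩
      exact hCV w hw2 fun a ha => hAc a ha w hw1.1
    rw [h.card] at h3
    have h5 : Nat.card A1 * Nat.card Z * Nat.card Z ≤ Nat.card A * Nat.card Z := by
      calc Nat.card A1 * Nat.card Z * Nat.card Z = Nat.card A1 * (Nat.card Z * Nat.card Z) := by ring
        _ = _ := h3.symm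
        _ ≤ Nat.card A * Nat.card Z := Nat.mul_le_mul h1 h4
    exact Nat.le_of_mul_le_mul_right h5 Nat.card_pos
  have hup := h.card_le hAS hv hvZ
  rw [← hA1] at hup
  -- `[A, v] = Z`
  have hrange : Nat.card Z ≤ Nat.card ((h.dh hv).comp (inclusion hAS)).range := by
    rw [hup] at hlow
    exact Nat.le_of_mul_le_mul_left hlow Nat.card_pos
  have htop : ((h.dh hv).comp (inclusion hAS)).range = ⊤ := by
    apply Subgroup.eq_top_of_card_eq
    exact le_antisymm (Subgroup.card_le_card_group _) hrange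
  have hcov : ∀ s ∈ (S : Subgroup G), ∃ a ∈ A, a⁻¹ * s ∈ centralizer (V : Set G) := by
    intro s hs
    have h1 : h.dh hv ⟨s, hs⟩ ∈ ((h.dh hv).comp (inclusion hAS)).range := by rw [htop]; exact mem_top _
    obtain ⟨a, ha⟩ := h1
    refine ⟨a, a.2, ?_⟩
    have h2 : h.dh hv ((inclusion hAS a)⁻¹ * ⟨s, hs⟩) = 1 := by
      rw [map_mul, map_inv, ← ha]
      exact inv_mul_cancel _
    exact (h.dh_eq_one hv hvZ).1 h2
  -- the group `Y`
  let Y : Subgroup G :=
    { carrier := {y | y ∈ (S : Subgroup G) ∧ y ∈ centralizer (V : Set G) ∧ y * y = 1 ∧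
        ∀ s ∈ (S : Subgroup G), s ∈ centralizer (V : Set G) → s * y = y * s}
      one_mem' := ⟨one_mem _, one_mem _, one_mul 1, fun s _ _ => by rw [mul_one, one_mul]⟩
      mul_mem' := by
        rintro a b ⟨ha, ha1, ha2, ha3⟩ ⟨hb, hb1, hb2, hb3⟩
        refine ⟨mul_mem ha hb, mul_mem ha1 hb1, ?_, fun s hs hs1 => ?_⟩
        · have h1 := ha3 b hb hb1
          calc a * b * (a * b) = a * (b * a) * b := by group
            _ = a * (a * b) * b := by rw [h1]
            _ = a * a * (b * b) := by group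
            _ = 1 := by rw [ha2, hb2, one_mul]
        · rw [← mul_assoc, ha3 s hs hs1, mul_assoc, hb3 s hs hs1, mul_assoc]
      inv_mem' := by
        rintro a ⟨ha, ha1, ha2, ha3⟩
        have h1 : a⁻¹ = a := inv_eq_of_mul_eq_one_left ha2
        rw [h1]
        exact ⟨ha, ha1, ha2, ha3⟩ }
  have hYA : Y ≤ centralizer (A1 : Set G) := by
    intro y hy
    rw [mem_centralizer_iff]
    exact fun a ha => hy.2.2.2 a (hAS ha.1) ha.2
  have hEY : EA Y := by
    refine ⟨fun y hy => ?_, fun y hy => by rw [pow_two]; exact hy.2.2.1⟩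
    rw [mem_centralizer_iff]
    exact fun y' hy' => hy.2.2.2 y' hy'.1 hy'.2.1
  have hYZ : A1 ⊓ Y ≤ Z := by
    rintro y ⟨hy1, hy2⟩
    refine h.omega y hy2.1 hy2.2.2.1 fun s hs => ?_
    obtain ⟨a, ha, has⟩ := hcov s hs
    have h1 := hy2.2.2.2 _ (mul_mem (inv_mem (hAS ha)) hs) has
    have h2 : s = a * (a⁻¹ * s) := by group
    rw [h2, mul_assoc, h1, ← mul_assoc, hAc a ha y hy1.1, mul_assoc]
  have hYcard : Nat.card Y ≤ Nat.card V := by
    have hE : EA (A1 ⊔ Y) := hEA1.sup hEY (comm_symm hYA)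
    have h1 := hA.max _ hE
    have h3 := card_sup_mul (hYA.trans (centralizer_le_normalizer _))
    have h4 := Subgroup.card_le_of_le hYZ
    have h5 : Nat.card A1 * Nat.card Y ≤ Nat.card A1 * (Nat.card Z * Nat.card Z) := by
      calc Nat.card A1 * Nat.card Y = _ := h3.symm
        _ ≤ Nat.card A * Nat.card Z := Nat.mul_le_mul h1 h4
        _ = Nat.card A1 * Nat.card ((h.dh hv).comp (inclusion hAS)).range * Nat.card Z := by rw [← hup]
        _ ≤ Nat.card A1 * Nat.card Z * Nat.card Z :=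
          Nat.mul_le_mul_right _ (Nat.mul_le_mul_left _ (Subgroup.card_le_card_group _))
        _ = _ := by ring
    rw [h.card]
    exact Nat.le_of_mul_le_mul_left h5 Nat.card_pos
  have hVY : V ≤ Y := by
    intro w hw
    refine ⟨h.VS hw, mem_centralizer_iff.2 fun w' hw' => h.Vcomm hw' hw, h.Vsq w hw, fun s _ hs1 => ?_⟩
    exact (mem_centralizer_iff.1 hs1 w hw).symm
  have hYV : V = Y := Subgroup.eq_of_le_of_card_ge hVY hYcard
  intro y hy hy1 hy2 hy3
  rw [hYV]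
  exact ⟨hy, hy1, hy2, hy3⟩

/-! ### The action of `kx V Z` on `V` -/

theorem kx_act {g v : G} (hg : g ∈ kx V Z) (hv : v ∈ V) : g * v * g⁻¹ * v⁻¹ ∈ Z :=
  (mem_kx.1 hg).2 v (h.V_le_ws h.ZV hv)

theorem kx_norm_V : kx V Z ≤ normalizer (V : Set G) := kx_normalizes h.ZV (h.V_le_ws h.ZV)

theorem kx_norm_V' {X : Subgroup G} (hXV : X ≤ V) : kx V X ≤ normalizer (V : Set G) :=
  kx_normalizes hXV (h.V_le_ws hXV)

/-- two elements of `kx V Z` commute modulo `C_G(V)` -/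
theorem kx_comm {a b v : G} (ha : a ∈ kx V Z) (hb : b ∈ kx V Z) (hv : v ∈ V) :
    a * b * v * (a * b)⁻¹ = b * a * v * (b * a)⁻¹ := by
  have h1 := h.kx_act ha hv
  have h2 := h.kx_act hb hv
  have h3 := (mem_kx.1 ha).1 _ h2
  have h4 := (mem_kx.1 hb).1 _ h1
  have h5 := h.Vcomm (h.ZV h1) (h.ZV h2)
  calc a * b * v * (a * b)⁻¹ = a * (b * v * b⁻¹ * v⁻¹) * a⁻¹ * (a * v * a⁻¹ * v⁻¹) * v := by group
    _ = (b * v * b⁻¹ * v⁻¹) * (a * v * a⁻¹ * v⁻¹) * v := by rw [h3, mul_inv_cancel_right]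
    _ = (a * v * a⁻¹ * v⁻¹) * (b * v * b⁻¹ * v⁻¹) * v := by rw [h5]
    _ = b * (a * v * a⁻¹ * v⁻¹) * b⁻¹ * (b * v * b⁻¹ * v⁻¹) * v := by rw [h4, mul_inv_cancel_right]
    _ = b * a * v * (b * a)⁻¹ := by group

/-- the squares of `kx V Z` centralise `V` -/
theorem kx_sq {a v : G} (ha : a ∈ kx V Z) (hv : v ∈ V) : a * a * v = v * (a * a) := by
  have h1 := h.kx_act ha hv
  have h3 := (mem_kx.1 ha).1 _ h1
  have h2 := h.Vsq _ (h.ZV h1)
  have h4 : a * a * v * (a * a)⁻¹ = v := by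
    calc a * a * v * (a * a)⁻¹ = a * (a * v * a⁻¹ * v⁻¹) * a⁻¹ * (a * v * a⁻¹ * v⁻¹) * v := by group
      _ = (a * v * a⁻¹ * v⁻¹) * (a * v * a⁻¹ * v⁻¹) * v := by rw [h3, mul_inv_cancel_right]
      _ = v := by rw [h2, one_mul]
  rwa [mul_inv_eq_iff_eq_mul] at h4

/-- `kx V Z = (S ∩ kx V Z) C_{kx}(V)` -/
theorem kx_two {g : G} (hg : g ∈ kx V Z) :
    ∃ k ∈ kx V Z, k ∈ (S : Subgroup G) ∧ k * g⁻¹ ∈ centralizer (V : Set G) := by
  obtain ⟨m, hm, hgm⟩ := exists_odd_pow g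
  -- `g ^ m ≡ g`
  have h1 : g ^ m * g⁻¹ ∈ centralizer (V : Set G) := by
    obtain ⟨j, rfl⟩ := hm
    have h2 : g ^ (2 * j + 1) * g⁻¹ = (g * g) ^ j := by
      rw [pow_succ, mul_inv_cancel_right, pow_mul, pow_two]
    rw [h2]
    refine Subgroup.pow_mem _ ?_ j
    rw [mem_centralizer_iff]
    exact fun v hv => (h.kx_sq hg hv).symm
  have hSK : (S : Subgroup G) ≤ normalizer ((kx V Z : Subgroup G) : Set G) := h.S_le_N.trans (normalizer_le_kx V Z)
  have hB : zpowers (g ^ m) ≤ kx V Z ⊔ S := (zpowers_le.2 (pow_mem hg m)).trans le_sup_left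
  obtain ⟨x, hx, hxB⟩ := exists_le_conj (S := S) le_sup_right hgm.isPGroup hB
  rw [← SetLike.mem_coe, coe_mul_of_right_le_normalizer_left _ _ hSK] at hx
  obtain ⟨k, hk, s, hs, rfl⟩ := hx
  have h3 : g ^ m ∈ cj (k * s) (S : Subgroup G) := hxB (mem_zpowers _)
  rw [← cj_cj, cj_eq_iff.2 (le_normalizer hs), mem_cj] at h3
  refine ⟨k⁻¹ * g ^ m * k, mul_mem (mul_mem (inv_mem hk) (pow_mem hg m)) hk, h3, ?_⟩
  rw [mem_centralizer_iff]
  intro v hv
  have h4 : ∀ v ∈ V, k⁻¹ * g ^ m * k * v * (k⁻¹ * g ^ m * k)⁻¹ = g ^ m * v * (g ^ m)⁻¹ := by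
    intro v hv
    have h5 := h.kx_comm (inv_mem hk) (mul_mem (pow_mem hg m) hk) hv
    calc k⁻¹ * g ^ m * k * v * (k⁻¹ * g ^ m * k)⁻¹ = k⁻¹ * (g ^ m * k) * v * (k⁻¹ * (g ^ m * k))⁻¹ := by group
      _ = g ^ m * k * k⁻¹ * v * (g ^ m * k * k⁻¹)⁻¹ := h5
      _ = g ^ m * v * (g ^ m)⁻¹ := by group
  have hgV : g ∈ normalizer (V : Set G) := h.kx_norm_V hg
  have h6 : g⁻¹ * v * g ∈ V := by
    have := (mem_normalizer_iff.1 (inv_mem hgV) v).1 hv
    rwa [inv_inv] at this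
  have h7 : (g ^ m * g⁻¹) * v * (g ^ m * g⁻¹)⁻¹ = v := by
    rw [mul_inv_eq_iff_eq_mul]
    exact (mem_centralizer_iff.1 h1 v hv).symm
  have h8 : (k⁻¹ * g ^ m * k * g⁻¹) * v * (k⁻¹ * g ^ m * k * g⁻¹)⁻¹ = v := by
    calc (k⁻¹ * g ^ m * k * g⁻¹) * v * (k⁻¹ * g ^ m * k * g⁻¹)⁻¹
        = k⁻¹ * g ^ m * k * (g⁻¹ * v * g) * (k⁻¹ * g ^ m * k)⁻¹ := by group
      _ = g ^ m * (g⁻¹ * v * g) * (g ^ m)⁻¹ := h4 _ h6
      _ = (g ^ m * g⁻¹) * v * (g ^ m * g⁻¹)⁻¹ := by group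
      _ = v := h7
  rw [mul_inv_eq_iff_eq_mul] at h8
  exact h8.symm

section F1

variable (hf : ¬ kx V Z ≤ centralizer (V : Set G))
include hf

/-- **(F1)** `S ∩ kx V Z` covers `S / C_S(V)`. -/
theorem K_full {s : G} (hs : s ∈ (S : Subgroup G)) :
    ∃ k ∈ kx V Z, k ∈ (S : Subgroup G) ∧ k * s⁻¹ ∈ centralizer (V : Set G) := by
  by_cases hsV : s ∈ centralizer (V : Set G)
  · exact ⟨1, one_mem _, one_mem _, by rw [one_mul]; exact inv_mem hsV⟩
  obtain ⟨g, hg, hgV⟩ := Set.not_subset.1 hf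
  obtain ⟨k, hk, hkS, hkg⟩ := h.kx_two hg
  have hkV : k ∉ centralizer (V : Set G) := by
    intro e
    apply hgV
    have h1 := mul_mem (inv_mem hkg) e
    have h2 : (k * g⁻¹)⁻¹ * k = g := by group
    rwa [h2] at h1
  obtain ⟨t, ht, htZ, hts⟩ := h.torus k hkS s hs hkV hsV
  have h1 : t * k * t⁻¹ ∈ kx V Z := (mem_normalizer_iff.1 (normalizer_le_kx V Z htZ) k).1 hk
  obtain ⟨k', hk', hkS', hkk⟩ := h.kx_two h1
  refine ⟨k', hk', hkS', ?_⟩
  have h2 := mul_mem hkk hts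
  have h3 : k' * (t * k * t⁻¹)⁻¹ * (t * k * t⁻¹ * s⁻¹) = k' * s⁻¹ := by group
  rwa [h3] at h2

/-- `[k, v]` takes every value in `Z` -/
theorem K_act {v z : G} (hv : v ∈ V) (hvZ : v ∉ Z) (hz : z ∈ Z) :
    ∃ k ∈ kx V Z, k ∈ (S : Subgroup G) ∧ k * v * k⁻¹ * v⁻¹ = z := by
  obtain ⟨s, hs, hsz⟩ := h.full v hv hvZ z hz
  obtain ⟨k, hk, hkS, hks⟩ := h.K_full hf hs
  refine ⟨k, hk, hkS, ?_⟩
  have hsV : s ∈ normalizer (V : Set G) := h.PN (h.SP hs)
  have h1 := (mem_normalizer_iff.1 hsV v).1 hv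
  have h2 := mem_centralizer_iff.1 hks _ h1
  rw [← hsz]
  congr 1
  calc k * v * k⁻¹ = (k * s⁻¹) * (s * v * s⁻¹) * (k * s⁻¹)⁻¹ := by group
    _ = (s * v * s⁻¹) * (k * s⁻¹) * (k * s⁻¹)⁻¹ := by rw [h2]
    _ = s * v * s⁻¹ := by group

/-- some element of `S ∩ kx V Z` is nontrivial on `V` -/
theorem exists_K : ∃ k ∈ kx V Z, k ∈ (S : Subgroup G) ∧ k ∉ centralizer (V : Set G) := by
  obtain ⟨g, hg, hgV⟩ := Set.not_subset.1 hf
  obtain ⟨k, hk, hkS, hkg⟩ := h.kx_two hg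
  refine ⟨k, hk, hkS, fun e => hgV ?_⟩
  have h1 := mul_mem (inv_mem hkg) e
  have h2 : (k * g⁻¹)⁻¹ * k = g := by group
  rwa [h2] at h1

/-- **(F1)** `kx V Z` is transitive on the points `≠ Z` of `V`. -/
theorem K_trans {X Y : Subgroup G} (hX : IsCj Z X) (hXV : X ≤ V) (hY : IsCj Z Y) (hYV : Y ≤ V) (hXZ : X ≠ Z)
    (hYZ : Y ≠ Z) : ∃ k ∈ kx V Z, k ∈ (S : Subgroup G) ∧ cj k X = Y := by
  obtain ⟨x, hx, hx1⟩ := h.pt_ne_bot hX
  obtain ⟨z, hz, y, hy, rfl⟩ := h.exists_mul h.isCj_self h.ZV hY hYV hYZ.symm (hXV hx)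
  have hxZ : z * y ∉ Z := fun e => hXZ (h.pts_eq hX h.isCj_self hx e hx1)
  have hy1 : y ≠ 1 := by
    rintro rfl
    rw [mul_one] at hxZ
    exact hxZ hz
  obtain ⟨k, hk, hkS, hkz⟩ := h.K_act hf (hXV hx) hxZ (Z.inv_mem hz)
  refine ⟨k, hk, hkS, h.pts_eq (hX.cj k) hY ?_ hy hy1⟩
  have h1 : k * (z * y) * k⁻¹ = y := by
    rw [mul_inv_eq_iff_eq_mul] at hkz
    rw [hkz]; group
  rw [← h1]
  exact conj_mem_cj hx

end F1

/-- the hypothesis (F1) at the other points of `V` -/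
theorem hf_pt (hf : ¬ kx V Z ≤ centralizer (V : Set G)) {X : Subgroup G} (hX : IsCj Z X) (hXV : X ≤ V) :
    ¬ kx V X ≤ centralizer (V : Set G) := by
  obtain ⟨p, hp, rfl⟩ := h.exists_pt hX hXV
  intro h1
  apply hf
  rw [kx_cj, cj_le_iff, cj_centralizer, cj_eq_iff.2 (inv_mem (h.PN hp))] at h1
  exact h1

/-- two points of `V` are interchanged by a 2-element of some `kx V T` -/
theorem swap (hf : ¬ kx V Z ≤ centralizer (V : Set G)) {X Y : Subgroup G} (hX : IsCj Z X) (hXV : X ≤ V)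
    (hY : IsCj Z Y) (hYV : Y ≤ V) : ∃ k ∈ XV V Z, k * k ∈ centralizer (V : Set G) ∧ cj k X = Y ∧ cj k Y = X := by
  by_cases hXY : X = Y
  · exact ⟨1, one_mem _, by rw [one_mul]; exact one_mem _, by rw [cj_one, hXY], by rw [cj_one, hXY]⟩
  obtain ⟨T, hT, hTV, hTX, hTY⟩ := h.exists_third hX hXV hY hYV hXY
  obtain ⟨S', h'⟩ := h.exists_flag hT hTV
  have hc : ∀ {X : Subgroup G}, IsCj Z X → IsCj T X := by
    intro X hX
    obtain ⟨g, rfl⟩ := hT
    exact isCj_cj.2 hX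
  obtain ⟨k, hk, -, hkX⟩ := h'.K_trans (h.hf_pt hf hT hTV) (hc hX) hXV (hc hY) hYV hTX.symm hTY.symm
  have hkk : k * k ∈ centralizer (V : Set G) := by
    rw [mem_centralizer_iff]
    exact fun v hv => (h'.kx_sq hk hv).symm
  refine ⟨k, le_XV hT hTV hk, hkk, hkX, ?_⟩
  rw [← hkX, cj_cj, cj_eq_iff]
  exact centralizer_le_normalizer _ (centralizer_le hXV hkk)

/-! ### (T7) -/

theorem isCj_of {X T : Subgroup G} (hT : IsCj Z T) (hX : IsCj Z X) : IsCj T X := by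
  obtain ⟨g, rfl⟩ := hT
  exact isCj_cj.2 hX

/-- **(T7)** `ws V X ⊓ ws V Y` is the same for all pairs of points of `V`. -/
theorem IV_eq (hf : ¬ kx V Z ≤ centralizer (V : Set G)) {X Y : Subgroup G} (hX : IsCj Z X) (hXV : X ≤ V)
    (hY : IsCj Z Y) (hYV : Y ≤ V) (hne : X ≠ Y) : ws V X ⊓ ws V Y = IV V Z := by
  refine le_antisymm ?_ (le_inf (IV_le hX hXV) (IV_le hY hYV))
  refine le_sInf ?_
  rintro _ ⟨T, hT, hTV, rfl⟩
  by_cases hTX : T = X
  · rw [hTX]; exact inf_le_left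
  obtain ⟨S', h'⟩ := h.exists_flag hX hXV
  obtain ⟨k, hk, -, hkY⟩ := h'.K_trans (h.hf_pt hf hX hXV) (h.isCj_of hX hY) hYV (h.isCj_of hX hT) hTV hne.symm hTX
  have h1 : k ∈ normalizer ((ws V X ⊓ ws V Y : Subgroup G) : Set G) :=
    kx_normalizes (le_inf (hXV.trans (h.V_le_ws hXV)) (hXV.trans (h.V_le_ws hYV))) inf_le_left hk
  rw [← cj_eq_iff] at h1
  rw [← h1, ← hkY, ws_cj, cj_le_cj]
  exact inf_le_right

theorem V_le_IV : V ≤ IV V Z := by
  refine le_sInf ?_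
  rintro _ ⟨Y, -, hYV, rfl⟩
  exact h.V_le_ws hYV

theorem IV_le_ws : IV V Z ≤ ws V Z := IV_le h.isCj_self h.ZV

theorem IV_comm {a b : G} (ha : a ∈ IV V Z) (hb : b ∈ IV V Z) : a * b = b * a :=
  (mem_centralizer_iff.1 (h.Wcomm (h.IV_le_ws ha)) b (h.IV_le_ws hb)).symm

theorem IV_sq {a : G} (ha : a ∈ IV V Z) : a * a = 1 := h.ws_sq a (h.IV_le_ws ha)

theorem XV_le_N : XV V Z ≤ normalizer (V : Set G) := by
  refine sSup_le ?_
  rintro _ ⟨Y, -, hYV, rfl⟩
  exact h.kx_norm_V' hYV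

/-- `XV` centralises `IV / V`. -/
theorem XV_act {g u : G} (hg : g ∈ XV V Z) (hu : u ∈ IV V Z) : g * u * g⁻¹ * u⁻¹ ∈ V := by
  let E : Subgroup G :=
    { carrier := {g | g ∈ normalizer (V : Set G) ∧ ∀ u ∈ IV V Z, g * u * g⁻¹ * u⁻¹ ∈ V}
      one_mem' := ⟨one_mem _, fun u _ => by
        have : (1 : G) * u * 1⁻¹ * u⁻¹ = 1 := by group
        rw [this]; exact one_mem _⟩
      mul_mem' := by
        rintro a b ⟨ha, ha'⟩ ⟨hb, hb'⟩
        refine ⟨mul_mem ha hb, fun u hu => ?_⟩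
        have e : a * b * u * (a * b)⁻¹ * u⁻¹ = a * (b * u * b⁻¹ * u⁻¹) * a⁻¹ * (a * u * a⁻¹ * u⁻¹) := by group
        rw [e]
        exact V.mul_mem ((mem_normalizer_iff.1 ha _).1 (hb' u hu)) (ha' u hu)
      inv_mem' := by
        rintro a ⟨ha, ha'⟩
        refine ⟨inv_mem ha, fun u hu => ?_⟩
        have e : a⁻¹ * u * a⁻¹⁻¹ * u⁻¹ = a⁻¹ * (a * u * a⁻¹ * u⁻¹)⁻¹ * a⁻¹⁻¹ := by group
        rw [e]
        exact (mem_normalizer_iff.1 (inv_mem ha) _).1 (V.inv_mem (ha' u hu)) }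
  have h1 : XV V Z ≤ E := by
    refine sSup_le ?_
    rintro _ ⟨Y, hY, hYV, rfl⟩ k hk
    exact ⟨h.kx_norm_V' hYV hk, fun u hu => hYV ((mem_kx.1 hk).2 u (IV_le hY hYV hu))⟩
  exact (h1 hg).2 u hu

/-- a nontrivial subgroup of `IV` normalised by `S` meets `Z` -/
theorem exists_fixed {D : Subgroup G} (hD : D ≤ IV V Z) (hDS : (S : Subgroup G) ≤ normalizer (D : Set G))
    (hne : D ≠ ⊥) : ∃ d ∈ D, d ∈ Z ∧ d ≠ 1 := by
  have : Fact (Nat.Prime 2) := ⟨Nat.prime_two⟩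
  have hDS' : D ≤ (S : Subgroup G) := hD.trans (h.IV_le_ws.trans h.ws_le_S)
  let _ : MulAction (S : Subgroup G) D :=
    { smul := fun s d => ⟨(s : G) * d * (s : G)⁻¹, (mem_normalizer_iff.1 (hDS s.2) d).1 d.2⟩
      one_smul := fun d => Subtype.ext (by
        show (1 : G) * d * (1 : G)⁻¹ = d
        group)
      mul_smul := fun s t d => Subtype.ext (by
        show (s : G) * t * d * ((s : G) * t)⁻¹ = (s : G) * ((t : G) * d * (t : G)⁻¹) * (s : G)⁻¹
        group) }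
  have h2 : 2 ∣ Nat.card D := by
    obtain ⟨n, hn⟩ := IsPGroup.iff_card.1 (S.isPGroup'.to_le hDS')
    rw [hn]
    have : n ≠ 0 := by
      rintro rfl
      rw [pow_zero] at hn
      exact hne (Subgroup.card_eq_one.1 hn)
    exact dvd_pow_self 2 this
  obtain ⟨d, hd, hd1⟩ := S.isPGroup'.exists_fixed_point_of_prime_dvd_card_of_fixed_point D h2 (a := 1) (by
    intro s
    apply Subtype.ext
    show (s : G) * (1 : G) * (s : G)⁻¹ = 1
    group)
  refine ⟨d, d.2, ?_, fun e => hd1 (Subtype.ext e.symm)⟩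
  refine h.omega d (hDS' d.2) (h.IV_sq (hD d.2)) fun s hs => ?_
  have h3 : (⟨s, hs⟩ : (S : Subgroup G)) • d = d := hd _
  have h4 : s * (d : G) * s⁻¹ = d := congrArg Subtype.val h3
  rwa [mul_inv_eq_iff_eq_mul] at h4

/-- `C_{IV}(XV) = 1` -/
theorem cent_IV (hf : ¬ kx V Z ≤ centralizer (V : Set G)) {u : G} (hu : u ∈ IV V Z)
    (hc : ∀ g ∈ XV V Z, g * u = u * g) : u = 1 := by
  by_contra hu1
  set D : Subgroup G := IV V Z ⊓ centralizer ((XV V Z : Subgroup G) : Set G) with hD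
  have hDn : (S : Subgroup G) ≤ normalizer (D : Set G) := by
    intro s hs
    have hsV := h.PN (h.SP hs)
    rw [← cj_eq_iff, hD, cj_inf, cj_centralizer, cj_eq_iff.2 (normalizer_le_IV V Z hsV),
      cj_eq_iff.2 (normalizer_le_XV V Z hsV)]
  obtain ⟨d, hd, hdZ, hd1⟩ := h.exists_fixed (D := D) inf_le_left hDn (by
    intro e
    apply hu1
    rw [← mem_bot (G := G), ← e]
    refine ⟨hu, mem_centralizer_iff.2 fun g hg => hc g hg⟩)
  obtain ⟨Y, hY, hYV, hYZ⟩ := h.exists_second h.isCj_self h.ZV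
  obtain ⟨S', h'⟩ := h.exists_flag hY hYV
  obtain ⟨k, hk, hkS, hkV⟩ := h'.exists_K (h.hf_pt hf hY hYV)
  have h1 : k * d = d * k := mem_centralizer_iff.1 hd.2 k (le_XV hY hYV hk)
  have hdY : d ∈ Y := by
    by_contra e
    exact hkV (h'.mem_cent_of hkS (h.ZV hdZ) e h1)
  exact hYZ (h.pts_eq hY h.isCj_self hdY hdZ hd1)

/-- **CLAIM**: `C_{IV}(C_{XV}(V)) = V`. -/
theorem mem_V_of_comm (hf : ¬ kx V Z ≤ centralizer (V : Set G)) (hO : OmQ S V) {u : G} (hu : u ∈ IV V Z)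
    (hc : ∀ c ∈ XV V Z, c ∈ centralizer (V : Set G) → c * u = u * c) : u ∈ V := by
  have huV : ∀ v ∈ V, v * u = u * v := fun v hv => h.IV_comm (h.V_le_IV hv) hu
  refine hO u (h.ws_le_S (h.IV_le_ws hu)) (mem_centralizer_iff.2 huV) (h.IV_sq hu) fun c _ hcV => ?_
  have hcN : c ∈ normalizer (V : Set G) := centralizer_le_normalizer _ hcV
  have hcv : ∀ v ∈ V, c * v = v * c := fun v hv => (mem_centralizer_iff.1 hcV v hv).symm
  set t := c * u * c⁻¹ * u⁻¹ with ht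
  have htI : t ∈ IV V Z :=
    mul_mem ((mem_normalizer_iff.1 (normalizer_le_IV V Z hcN) u).1 hu) (inv_mem hu)
  have ht1 : t = 1 := by
    refine h.cent_IV hf htI fun g hg => ?_
    have hgN := h.XV_le_N hg
    set v := g * u * g⁻¹ * u⁻¹ with hv
    have hvV : v ∈ V := h.XV_act hg hu
    -- `e = g⁻¹ c⁻¹ g c`
    have he1 : g⁻¹ * (c⁻¹ * g * c) ∈ XV V Z := by
      refine mul_mem (inv_mem hg) ?_
      have := (mem_normalizer_iff.1 (normalizer_le_XV V Z (inv_mem hcN)) g).1 hg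
      rwa [inv_inv] at this
    have he2 : g⁻¹ * (c⁻¹ * g * c) ∈ centralizer (V : Set G) := by
      rw [mem_centralizer_iff]
      intro w hw
      have hw' : g * w * g⁻¹ ∈ V := (mem_normalizer_iff.1 hgN w).1 hw
      have e1 := hcv w hw
      have e2 := hcv _ hw'
      have e3 : g⁻¹ * (c⁻¹ * g * c) * w * (g⁻¹ * (c⁻¹ * g * c))⁻¹ = w := by
        calc g⁻¹ * (c⁻¹ * g * c) * w * (g⁻¹ * (c⁻¹ * g * c))⁻¹
            = g⁻¹ * c⁻¹ * g * (c * w) * c⁻¹ * g⁻¹ * c * g := by group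
          _ = g⁻¹ * c⁻¹ * g * (w * c) * c⁻¹ * g⁻¹ * c * g := by rw [e1]
          _ = g⁻¹ * c⁻¹ * ((g * w * g⁻¹) * c) * g := by group
          _ = g⁻¹ * c⁻¹ * (c * (g * w * g⁻¹)) * g := by rw [e2]
          _ = w := by group
      rw [mul_inv_eq_iff_eq_mul] at e3
      exact e3.symm
    have he := hc _ he1 he2
    have hgu : g * u * g⁻¹ = v * u := by rw [hv]; group
    have h1 : g * (c * u * c⁻¹) * g⁻¹ = v * (c * u * c⁻¹) := by
      calc g * (c * u * c⁻¹) * g⁻¹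
          = c * g * ((g⁻¹ * (c⁻¹ * g * c)) * u) * (g⁻¹ * (c⁻¹ * g * c))⁻¹ * g⁻¹ * c⁻¹ := by group
        _ = c * g * (u * (g⁻¹ * (c⁻¹ * g * c))) * (g⁻¹ * (c⁻¹ * g * c))⁻¹ * g⁻¹ * c⁻¹ := by rw [he]
        _ = c * (g * u * g⁻¹) * c⁻¹ := by group
        _ = c * (v * u) * c⁻¹ := by rw [hgu]
        _ = (c * v) * u * c⁻¹ := by group
        _ = (v * c) * u * c⁻¹ := by rw [hcv v hvV]
        _ = v * (c * u * c⁻¹) := by group
    have h2 : g * t * g⁻¹ = t := by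
      calc g * t * g⁻¹ = (g * (c * u * c⁻¹) * g⁻¹) * (g * u * g⁻¹)⁻¹ := by rw [ht]; group
        _ = v * (c * u * c⁻¹) * (v * u)⁻¹ := by rw [h1, hgu]
        _ = v * t * v⁻¹ := by rw [ht]; group
        _ = t := by rw [h.IV_comm (h.V_le_IV hvV) htI, mul_inv_cancel_right]
    rwa [mul_inv_eq_iff_eq_mul] at h2
  rw [ht, mul_inv_eq_one, mul_inv_eq_iff_eq_mul] at ht1
  exact ht1

/-- `XV` is irreducible on `V` -/
theorem irr (hf : ¬ kx V Z ≤ centralizer (V : Set G)) {D : Subgroup G} (hD : D ≤ V)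
    (hDn : ∀ g ∈ XV V Z, ∀ d ∈ D, g * d * g⁻¹ ∈ D) (hne : D ≠ ⊥) : D = V := by
  obtain ⟨d, hd, hd1⟩ : ∃ d ∈ D, d ≠ 1 := by
    by_contra hcon
    push Not at hcon
    exact hne ((eq_bot_iff_forall _).2 hcon)
  obtain ⟨Y, hY, hYV, hdY⟩ := h.exists_point (hD hd) hd1
  have key : ∀ T, IsCj Z T → T ≤ V → T ≠ Y → T ≤ D := by
    intro T hT hTV hTY y hy
    obtain ⟨S', h'⟩ := h.exists_flag hT hTV
    obtain ⟨k, hk, -, hky⟩ := h'.K_act (h.hf_pt hf hT hTV) (hD hd)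
      (fun e => hTY (h.pts_eq hT hY e hdY hd1)) hy
    rw [← hky]
    exact mul_mem (hDn k (le_XV hT hTV hk) d hd) (inv_mem hd)
  obtain ⟨T, hT, hTV, hTY⟩ := h.exists_second hY hYV
  obtain ⟨T', hT', hTV', hTT, hTY'⟩ := h.exists_third hT hTV hY hYV hTY
  refine le_antisymm hD fun v hv => ?_
  obtain ⟨x, hx, y, hy, rfl⟩ := h.exists_mul hT hTV hT' hTV' hTT.symm hv
  exact mul_mem (key T hT hTV hTY hx) (key T' hT' hTV' hTY' hy)

section F2

variable (hf : ¬ kx V Z ≤ centralizer (V : Set G)) (hO : OmQ S V) {u : G} (hu : u ∈ IV V Z) (huV : u ∉ V)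
include hf hO hu huV

/-- **(F2)** `c ↦ [c, u]` maps `C_{XV}(V)` onto `V`. -/
theorem F2 {v : G} (hv : v ∈ V) : ∃ c ∈ XV V Z, c ∈ centralizer (V : Set G) ∧ c * u * c⁻¹ * u⁻¹ = v := by
  let D : Subgroup G :=
    { carrier := {v | v ∈ V ∧ ∃ c ∈ XV V Z, c ∈ centralizer (V : Set G) ∧ c * u * c⁻¹ * u⁻¹ = v}
      one_mem' := ⟨one_mem _, 1, one_mem _, one_mem _, by group⟩
      mul_mem' := by
        rintro _ _ ⟨ha, a, ha1, ha2, rfl⟩ ⟨hb, b, hb1, hb2, rfl⟩
        refine ⟨mul_mem ha hb, a * b, mul_mem ha1 hb1, mul_mem ha2 hb2, ?_⟩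
        have h1 := mem_centralizer_iff.1 ha2 _ hb
        calc a * b * u * (a * b)⁻¹ * u⁻¹ = a * (b * u * b⁻¹ * u⁻¹) * a⁻¹ * (a * u * a⁻¹ * u⁻¹) := by group
          _ = (b * u * b⁻¹ * u⁻¹) * (a * u * a⁻¹ * u⁻¹) := by rw [← h1, mul_inv_cancel_right]
          _ = _ := h.Vcomm hb ha
      inv_mem' := by
        rintro _ ⟨ha, a, ha1, ha2, rfl⟩
        refine ⟨inv_mem ha, a⁻¹, inv_mem ha1, inv_mem ha2, ?_⟩
        have h1 := mem_centralizer_iff.1 ha2 _ (V.inv_mem ha)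
        calc a⁻¹ * u * a⁻¹⁻¹ * u⁻¹ = a⁻¹ * ((a * u * a⁻¹ * u⁻¹)⁻¹ * a) := by group
          _ = a⁻¹ * (a * (a * u * a⁻¹ * u⁻¹)⁻¹) := by rw [h1]
          _ = _ := by group }
  have hD : D = V := by
    refine h.irr hf (fun d hd => hd.1) ?_ ?_
    · rintro g hg _ ⟨hd, c, hc, hcV, rfl⟩
      have hgN := h.XV_le_N hg
      have hcg : g * c * g⁻¹ ∈ XV V Z := mul_mem (mul_mem hg hc) (inv_mem hg)
      have hcgV : g * c * g⁻¹ ∈ centralizer (V : Set G) := by
        have h1 : g * c * g⁻¹ ∈ cj g (centralizer (V : Set G)) := conj_mem_cj hcV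
        rwa [cj_centralizer, cj_eq_iff.2 hgN] at h1
      refine ⟨(mem_normalizer_iff.1 hgN _).1 hd, g * c * g⁻¹, hcg, hcgV, ?_⟩
      set v := g * u * g⁻¹ * u⁻¹ with hv
      have hvV : v ∈ V := h.XV_act hg hu
      have h2 := mem_centralizer_iff.1 hcgV v hvV
      have h3 : (g * c * g⁻¹) * u * (g * c * g⁻¹)⁻¹ * u⁻¹ ∈ V := h.XV_act hcg hu
      have h4 := h.Vcomm hvV h3
      have hgu : g * u * g⁻¹ = v * u := by rw [hv]; group
      symm
      calc g * (c * u * c⁻¹ * u⁻¹) * g⁻¹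
          = (g * c * g⁻¹) * (g * u * g⁻¹) * (g * c * g⁻¹)⁻¹ * (g * u * g⁻¹)⁻¹ := by group
        _ = (g * c * g⁻¹) * (v * u) * (g * c * g⁻¹)⁻¹ * (v * u)⁻¹ := by rw [hgu]
        _ = ((g * c * g⁻¹) * v) * u * (g * c * g⁻¹)⁻¹ * u⁻¹ * v⁻¹ := by group
        _ = (v * (g * c * g⁻¹)) * u * (g * c * g⁻¹)⁻¹ * u⁻¹ * v⁻¹ := by rw [h2]
        _ = v * ((g * c * g⁻¹) * u * (g * c * g⁻¹)⁻¹ * u⁻¹) * v⁻¹ := by group
        _ = (g * c * g⁻¹) * u * (g * c * g⁻¹)⁻¹ * u⁻¹ := by rw [h4, mul_inv_cancel_right]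
    · intro e
      apply huV
      refine h.mem_V_of_comm hf hO hu fun c hc hcV => ?_
      have h1 : c * u * c⁻¹ * u⁻¹ ∈ D := ⟨h.XV_act hc hu, c, hc, hcV, rfl⟩
      rw [e, mem_bot, mul_inv_eq_one, mul_inv_eq_iff_eq_mul] at h1
      exact h1
  have h1 : v ∈ D := by rw [hD]; exact hv
  exact h1.2

/-- **(F2)** `C_{XV}(u)` covers `XV / C_{XV}(V)`. -/
theorem F2_cover {g : G} (hg : g ∈ XV V Z) : ∃ x ∈ XV V Z, x * u = u * x ∧ x * g⁻¹ ∈ centralizer (V : Set G) := by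
  obtain ⟨c, hc, hcV, hcu⟩ := h.F2 hf hO hu huV (V.inv_mem (h.XV_act hg hu))
  refine ⟨c * g, mul_mem hc hg, ?_, by rwa [mul_inv_cancel_right]⟩
  have h1 := mem_centralizer_iff.1 hcV _ (h.XV_act hg hu)
  have h2 : c * g * u * (c * g)⁻¹ * u⁻¹ = 1 := by
    calc c * g * u * (c * g)⁻¹ * u⁻¹ = (c * (g * u * g⁻¹ * u⁻¹)) * c⁻¹ * (c * u * c⁻¹ * u⁻¹) := by group
      _ = ((g * u * g⁻¹ * u⁻¹) * c) * c⁻¹ * (g * u * g⁻¹ * u⁻¹)⁻¹ := by rw [hcu, h1]
      _ = 1 := by group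
  rwa [mul_inv_eq_one, mul_inv_eq_iff_eq_mul] at h2

/-- **(F2)** two points of `V` are interchanged by a 2-element of `XV` centralising `u`. -/
theorem F2_swap {X Y : Subgroup G} (hX : IsCj Z X) (hXV : X ≤ V) (hY : IsCj Z Y) (hYV : Y ≤ V) :
    ∃ x ∈ XV V Z, TwoEl x ∧ x * u = u * x ∧ cj x X = Y ∧ cj x Y = X := by
  obtain ⟨k, hk, hkk, hkX, hkY⟩ := h.swap hf hX hXV hY hYV
  obtain ⟨x, hx, hxu, hxk⟩ := h.F2_cover hf hO hu huV hk
  obtain ⟨m, hm, hxm⟩ := exists_odd_pow x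
  -- `x * x` centralises `V`
  have hkN := h.XV_le_N hk
  have hact : ∀ {T : Subgroup G}, T ≤ V → cj x T = cj k T := by
    intro T hT
    have h1 : cj (x * k⁻¹) (cj k T) = cj k T := by
      rw [cj_eq_iff]
      refine centralizer_le_normalizer _ (centralizer_le ?_ hxk)
      show cj k T ≤ V
      rw [cj_le_iff, cj_eq_iff.2 (inv_mem hkN)]
      exact hT
    rw [cj_cj, inv_mul_cancel_right] at h1
    exact h1
  have hxx : x * x ∈ centralizer (V : Set G) := by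
    have h1 : x * k⁻¹ * (k * (x * k⁻¹) * k⁻¹) ∈ centralizer (V : Set G) := by
      refine mul_mem hxk ?_
      have h2 : k * (x * k⁻¹) * k⁻¹ ∈ cj k (centralizer (V : Set G)) := conj_mem_cj hxk
      rwa [cj_centralizer, cj_eq_iff.2 hkN] at h2
    have h2 := mul_mem h1 hkk
    have h3 : x * k⁻¹ * (k * (x * k⁻¹) * k⁻¹) * (k * k) = x * x := by group
    rwa [h3] at h2
  have hpow : ∀ {T : Subgroup G}, T ≤ V → cj (x ^ m) T = cj x T := by
    intro T hT
    obtain ⟨j, rfl⟩ := hm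
    have h1 : x ^ (2 * j + 1) = x * (x * x) ^ j := by rw [pow_succ', pow_mul, pow_two]
    rw [h1, ← cj_cj, cj_eq_iff.2 (centralizer_le_normalizer _ (centralizer_le hT (pow_mem hxx j)))]
  refine ⟨x ^ m, pow_mem hx m, hxm, ?_, ?_, ?_⟩
  · exact (Commute.pow_left (show Commute x u from hxu) m).eq
  · rw [hpow hXV, hact hXV, hkX]
  · rw [hpow hYV, hact hYV, hkY]

/-- **(F2')** `[u, C_{kx Y}(V)] = Y` for every point `Y` of `V`. -/
theorem F2' {Y : Subgroup G} (hY : IsCj Z Y) (hYV : Y ≤ V) {y : G} (hy : y ∈ Y) :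
    ∃ d ∈ kx V Y, d ∈ centralizer (V : Set G) ∧ d * u * d⁻¹ * u⁻¹ = y := by
  obtain ⟨S', h'⟩ := h.exists_flag hY hYV
  obtain ⟨v, hv, hvY⟩ := h'.exists_out
  obtain ⟨r, hr, -, hrv⟩ := h'.K_act (h.hf_pt hf hY hYV) hv hvY (Y.inv_mem hy)
  obtain ⟨c, hc, hcV, hcu⟩ := h.F2 hf hO hu huV hv
  have hrN := h.kx_norm_V' hYV hr
  have hcY : c ∈ normalizer (Y : Set G) := centralizer_le_normalizer _ (centralizer_le hYV hcV)
  have hcN : c ∈ normalizer (V : Set G) := centralizer_le_normalizer _ hcV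
  refine ⟨c * r * c⁻¹ * r⁻¹, ?_, ?_, ?_⟩
  · exact mul_mem ((mem_normalizer_iff.1 (normalizer_le_kx V Y hcY) r).1 hr) (inv_mem hr)
  · have h1 : r * c⁻¹ * r⁻¹ ∈ cj r (centralizer (V : Set G)) := conj_mem_cj (inv_mem hcV)
    rw [cj_centralizer, cj_eq_iff.2 hrN] at h1
    have h2 := mul_mem hcV h1
    have h3 : c * (r * c⁻¹ * r⁻¹) = c * r * c⁻¹ * r⁻¹ := by group
    rwa [h3] at h2
  · -- `r⁻¹ u r = y₁ u`
    obtain ⟨y₁, hy₁, hry⟩ : ∃ y₁ ∈ Y, r⁻¹ * u * r = y₁ * u := by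
      refine ⟨r⁻¹ * u * r⁻¹⁻¹ * u⁻¹, (mem_kx.1 (inv_mem hr)).2 u (IV_le hY hYV hu), by group⟩
    have hry' : r * u * r⁻¹ = y₁⁻¹ * u := by
      have h1 := (mem_kx.1 hr).1 y₁ hy₁
      have h2 : u = r * (y₁ * u) * r⁻¹ := by rw [← hry]; group
      have h3 : r * (y₁ * u) * r⁻¹ = y₁ * (r * u * r⁻¹) := by
        calc r * (y₁ * u) * r⁻¹ = (r * y₁) * u * r⁻¹ := by group
          _ = (y₁ * r) * u * r⁻¹ := by rw [h1]
          _ = _ := by group
      rw [h3] at h2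
      rw [eq_inv_mul_iff_mul_eq]
      exact h2.symm
    have hcu' : c * u * c⁻¹ = v * u := by
      rw [mul_inv_eq_iff_eq_mul] at hcu
      exact hcu
    have hcv : ∀ w ∈ V, c * w * c⁻¹ = w := fun w hw => by
      rw [mul_inv_eq_iff_eq_mul]; exact (mem_centralizer_iff.1 hcV w hw).symm
    have hcv' : ∀ w ∈ V, c⁻¹ * w * c = w := fun w hw => by
      have := hcv w hw
      nth_rewrite 1 [← this]
      group
    have hcu'' : c⁻¹ * u * c = v⁻¹ * u := by
      have h1 : u = v⁻¹ * (c * u * c⁻¹) := by rw [hcu']; group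
      nth_rewrite 1 [h1]
      calc c⁻¹ * (v⁻¹ * (c * u * c⁻¹)) * c = (c⁻¹ * v⁻¹ * c) * u := by group
        _ = v⁻¹ * u := by rw [hcv' _ (V.inv_mem hv)]
    have hrv' : r * v * r⁻¹ = y⁻¹ * v := by
      rw [mul_inv_eq_iff_eq_mul] at hrv
      exact hrv
    have hrvi : r * v⁻¹ * r⁻¹ = v⁻¹ * y := by
      have : r * v⁻¹ * r⁻¹ = (r * v * r⁻¹)⁻¹ := by group
      rw [this, hrv']; group
    have hry1 : r * y₁ * r⁻¹ = y₁ := by rw [mul_inv_eq_iff_eq_mul]; exact (mem_kx.1 hr).1 y₁ hy₁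
    have hyV := hYV hy
    have hy1V := hYV hy₁
    have cvy : v * y = y * v := h.Vcomm hv hyV
    have cvi : v⁻¹ * y = y * v⁻¹ := h.Vcomm (V.inv_mem hv) hyV
    calc c * r * c⁻¹ * r⁻¹ * u * (c * r * c⁻¹ * r⁻¹)⁻¹ * u⁻¹
        = c * r * c⁻¹ * (r⁻¹ * u * r) * c * r⁻¹ * c⁻¹ * u⁻¹ := by group
      _ = c * r * (c⁻¹ * (y₁ * u) * c) * r⁻¹ * c⁻¹ * u⁻¹ := by rw [hry]; group
      _ = c * r * ((c⁻¹ * y₁ * c) * (c⁻¹ * u * c)) * r⁻¹ * c⁻¹ * u⁻¹ := by group
      _ = c * r * (y₁ * (v⁻¹ * u)) * r⁻¹ * c⁻¹ * u⁻¹ := by rw [hcv' _ hy1V, hcu'']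
      _ = c * ((r * y₁ * r⁻¹) * (r * v⁻¹ * r⁻¹) * (r * u * r⁻¹)) * c⁻¹ * u⁻¹ := by group
      _ = c * (y₁ * (v⁻¹ * y) * (y₁⁻¹ * u)) * c⁻¹ * u⁻¹ := by rw [hry1, hrvi, hry']
      _ = c * ((y₁ * (v⁻¹ * y) * y₁⁻¹) * u) * c⁻¹ * u⁻¹ := by group
      _ = c * ((v⁻¹ * y) * u) * c⁻¹ * u⁻¹ := by
        rw [h.Vcomm hy1V (V.mul_mem (V.inv_mem hv) hyV), mul_inv_cancel_right]
      _ = (c * (v⁻¹ * y) * c⁻¹) * (c * u * c⁻¹) * u⁻¹ := by group
      _ = (v⁻¹ * y) * (v * u) * u⁻¹ := by rw [hcv _ (V.mul_mem (V.inv_mem hv) hyV), hcu']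
      _ = v⁻¹ * (y * v) := by group
      _ = y := by rw [← cvy]; group

end F2

/-- **(STAR)** Let `X`, `Y` be points of the line `V` and `A` a point not on `V`. If some `u ∈ A#` is contained in
`IV = ws V X ⊓ ws V Y`, then `W_A` commutes with `W_X` if and only if it commutes with `W_Y`. -/
theorem star (hf : ¬ kx V Z ≤ centralizer (V : Set G)) (hO : OmQ S V) {A X Y : Subgroup G} (hA : IsCj Z A)
    (hAV : ¬ A ≤ V) (hX : IsCj Z X) (hXV : X ≤ V) (hY : IsCj Z Y) (hYV : Y ≤ V) {u : G} (huA : u ∈ A) (hu1 : u ≠ 1)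
    (hu : u ∈ IV V Z) (hcom : ws V A ≤ centralizer ((ws V X : Subgroup G) : Set G)) :
    ws V A ≤ centralizer ((ws V Y : Subgroup G) : Set G) := by
  have huV : u ∉ V := by
    intro e
    obtain ⟨T, hT, hTV, huT⟩ := h.exists_point e hu1
    exact hAV (h.pts_eq hA hT huA huT hu1 ▸ hTV)
  obtain ⟨x, -, hx2, hxu, hxX, -⟩ := h.F2_swap hf hO hu huV hX hXV hY hYV
  have h1 := h.two_comm' hA hx2 huA hu1 hxu
  have h2 : cj x A = A := by
    rw [cj_eq_iff]
    refine centralizer_le_normalizer _ (mem_centralizer_iff.2 fun a ha => (h1 a ha).symm)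
  have h3 := conj_le_centralizer (g := x) hcom
  change cj x (ws V A) ≤ centralizer ((cj x (ws V X) : Subgroup G) : Set G) at h3
  rwa [← ws_cj, ← ws_cj, h2, hxX] at h3

end PL

end Cfsg.Agent.Omega.NO3S.PT

end

section


/-!
# NO-3S, natural lines, the `(R, B)`-frame (TEXT 973-2): points are TI, field automorphisms allowed

`S` a Sylow 2-subgroup of `G`, `V` a natural `SL₂(q)`-module for `P ≥ S`, `Z` (= `R` of the text) the `F`-line of `V`
normalised by `S`, `B = C_S(Z)`.  `S / B` may be a nontrivial group of field automorphisms of `V`; if `S` centralises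
`Z` then `B = S` and this is the structure `PT.PL` (`PL.toPB`).  Points are the conjugates of `Z`, lines the conjugates
of `V`.  The names of the lemmas are those of `PointTI.lean`, `PointFTwo.lean`.

Differences: `PL.two_cent`, `PL.two_comm`, `PL.pts_comm` are FALSE here (a 2-element can normalise a point `X` and act on
it as a field automorphism); they are replaced by

* `PB.norm_of_comm` : `g` commutes with `1 ≠ x ∈ X`, `X` a point ⟹ `g` normalises `X`;
* `PB.two_line` : a 2-element which centralises a point `X` and commutes with some `v ∈ V - X`, `X ≤ V`, normalises `V` only if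
  it centralises `V`;
* **(T3')** `PB.two_col` : a 2-element which centralises a point `X` and commutes with `1 ≠ y ∈ Y`, `Y ≠ X` a point collinear
  with `X`, centralises the line `X Y`.
-/

set_option autoImplicit false
set_option linter.unusedSectionVars false

namespace Cfsg.Agent.Omega.NO3S.PT

open Subgroup Cfsg.Agent.Omega.NoFF.Basic
open Cfsg.Agent.Omega.NoFF.ThmJ (EA MaxEA card_sup_mul)
open scoped Pointwise

variable {G : Type*} [Group G]

/-! ### The hypotheses -/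

/-- **The `(R, B)`-frame** (natural lines, field automorphisms allowed); `Z` is the point `R`. -/
structure PB [Finite G] (S : Sylow 2 G) (B P V Z : Subgroup G) : Prop where
  SP : (S : Subgroup G) ≤ P
  PN : P ≤ normalizer (V : Set G)
  ZV : Z ≤ V
  VB : V ≤ B
  BS : B ≤ (S : Subgroup G)
  Zne : Z ≠ ⊥
  /-- `S` normalises `Z` -/
  SN : (S : Subgroup G) ≤ normalizer (Z : Set G)
  /-- `B = C_S(Z)` -/
  mem_B : ∀ s ∈ (S : Subgroup G), (∀ z ∈ Z, s * z = z * s) → s ∈ B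
  cen : ∀ z ∈ Z, ∀ s ∈ B, s * z = z * s
  /-- `Ω₁(Z(B)) ≤ Z` -/
  omega : ∀ x ∈ B, x * x = 1 → (∀ s ∈ B, s * x = x * s) → x ∈ Z
  Vsq : ∀ v ∈ V, v * v = 1
  part : ∀ v ∈ V, v ≠ 1 → ∃ p ∈ P, v ∈ cj p Z
  act : ∀ s ∈ B, ∀ v ∈ V, s * v * s⁻¹ * v⁻¹ ∈ Z
  free : ∀ s ∈ B, ∀ v ∈ V, v ∉ Z → s * v = v * s → ∀ v' ∈ V, s * v' = v' * s
  full : ∀ v ∈ V, v ∉ Z → ∀ z ∈ Z, ∃ s ∈ B, s * v * s⁻¹ * v⁻¹ = z
  torus : ∀ s ∈ B, ∀ t ∈ B, s ∉ centralizer (V : Set G) →
    t ∉ centralizer (V : Set G) → ∃ k ∈ P, k ∈ normalizer (Z : Set G) ∧ k * s * k⁻¹ * t⁻¹ ∈ centralizer (V : Set G)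
  card : Nat.card V = Nat.card Z * Nat.card Z
  Wcomm : ws V Z ≤ centralizer ((ws V Z : Subgroup G) : Set G)
  /-- TI -/
  ti : ∀ z ∈ Z, z ≠ 1 → ∀ g : G, g * z = z * g → g ∈ normalizer (Z : Set G)
  /-- `N_G(S) ≤ N_G(Z)` -/
  NS : normalizer ((S : Subgroup G) : Set G) ≤ normalizer (Z : Set G)
  /-- every element of `Z` is conjugate in `N_P(Z)` to an element centralised by `S` -/
  tor : ∀ z ∈ Z, z ≠ 1 → ∃ k ∈ P, k ∈ normalizer (Z : Set G) ∧ ∀ s ∈ (S : Subgroup G), s * (k * z * k⁻¹) = k * z * k⁻¹ * s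
  /-- (NS) `N_G(B) ≤ N_G(V)` -/
  NB : normalizer (B : Set G) ≤ normalizer (V : Set G)

/-- `Ω₁(Z(C_B(V))) ≤ V` -/
def OmB (B V : Subgroup G) : Prop :=
  ∀ y ∈ B, y ∈ centralizer (V : Set G) → y * y = 1 →
    (∀ s ∈ B, s ∈ centralizer (V : Set G) → s * y = y * s) → y ∈ V

/-- `PL` with (NS) is a special case. -/
theorem PL.toPB [Finite G] {S : Sylow 2 G} {P V Z : Subgroup G} (h : PL S P V Z)
    (hNB : normalizer ((S : Subgroup G) : Set G) ≤ normalizer (V : Set G)) : PB S (S : Subgroup G) P V Z where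
  SP := h.SP
  PN := h.PN
  ZV := h.ZV
  VB := h.VS
  BS := le_rfl
  Zne := h.Zne
  SN := h.S_le_N
  mem_B := fun s hs _ => hs
  cen := h.cen
  omega := h.omega
  Vsq := h.Vsq
  part := h.part
  act := h.act
  free := h.free
  full := h.full
  torus := h.torus
  card := h.card
  Wcomm := h.Wcomm
  ti := h.ti
  NS := by
    intro n hn
    rw [← cj_eq_iff] at hn
    rw [← cj_eq_iff]
    apply le_antisymm
    · intro x hx
      have hx' := mem_cj.1 hx
      have hxS : x ∈ (S : Subgroup G) := by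
        rw [← hn, mem_cj]
        exact h.VS (h.ZV hx')
      refine h.omega x hxS ?_ fun s hs => ?_
      · have h1 := congrArg (fun t => n * t * n⁻¹) (h.Vsq _ (h.ZV hx'))
        simpa [mul_assoc] using h1
      · have h1 : n⁻¹ * s * n ∈ (S : Subgroup G) := by
          rw [← hn, mem_cj] at hs
          exact hs
        have h2 := congrArg (fun t => n * t * n⁻¹) (h.cen _ hx' _ h1)
        simpa [mul_assoc] using h2
    · intro x hx
      rw [mem_cj]
      have hn' : cj n⁻¹ (S : Subgroup G) = (S : Subgroup G) := by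
        nth_rewrite 1 [← hn]
        rw [cj_cj, inv_mul_cancel, cj_one]
      have hxS : n⁻¹ * x * n ∈ (S : Subgroup G) := by
        rw [← mem_cj, hn]
        exact h.VS (h.ZV hx)
      refine h.omega _ hxS ?_ fun s hs => ?_
      · have h1 := congrArg (fun t => n⁻¹ * t * n) (h.Vsq _ (h.ZV hx))
        simpa [mul_assoc] using h1
      · have h1 : n * s * n⁻¹ ∈ (S : Subgroup G) := by
          rw [← hn', mem_cj, inv_inv] at hs
          exact hs
        have h2 := congrArg (fun t => n⁻¹ * t * n) (h.cen _ hx _ h1)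
        simpa [mul_assoc] using h2
  tor := fun z hz _ => ⟨1, one_mem _, one_mem _, fun s hs => by
    have := h.cen z hz s hs
    simpa using this⟩
  NB := hNB

theorem OmQ.toOmB [Finite G] {S : Sylow 2 G} {V : Subgroup G} (h : OmQ S V) : OmB (S : Subgroup G) V := h

namespace PB

variable [Finite G] {S : Sylow 2 G} {B P V Z : Subgroup G} (h : PB S B P V Z)
include h

theorem VS : V ≤ (S : Subgroup G) := h.VB.trans h.BS

theorem BP : B ≤ P := h.BS.trans h.SP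

/-- Everything is invariant under conjugation. -/
theorem conj (g : G) : PB (g • S) (cj g B) (cj g P) (cj g V) (cj g Z) where
  SP := cj_le_cj.2 h.SP
  PN := by rw [← cj_normalizer]; exact cj_le_cj.2 h.PN
  ZV := cj_le_cj.2 h.ZV
  VB := cj_le_cj.2 h.VB
  BS := cj_le_cj.2 h.BS
  Zne := by
    intro h1
    exact h.Zne (cj_inj.1 (h1.trans (cj_bot g).symm))
  SN := by rw [← cj_normalizer]; exact cj_le_cj.2 h.SN
  mem_B := by
    intro s hs hc
    rw [mem_cj]
    refine h.mem_B _ (mem_cj.1 hs) fun z hz => ?_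
    have h1 := hc _ (conj_mem_cj (g := g) hz)
    have h2 := congrArg (fun t => g⁻¹ * t * g) h1
    simpa [mul_assoc] using h2
  cen := by
    intro z hz s hs
    have h1 := h.cen _ (mem_cj.1 hz) _ (mem_cj.1 hs)
    have h2 := congrArg (fun t => g * t * g⁻¹) h1
    simpa [mul_assoc] using h2
  omega := by
    intro x hx hx2 hxs
    rw [mem_cj]
    refine h.omega _ (mem_cj.1 hx) ?_ fun s hs => ?_
    · calc g⁻¹ * x * g * (g⁻¹ * x * g) = g⁻¹ * (x * x) * g := by group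
        _ = 1 := by rw [hx2]; group
    · have h1 := hxs _ (conj_mem_cj (g := g) hs)
      have h2 := congrArg (fun t => g⁻¹ * t * g) h1
      simpa [mul_assoc] using h2
  Vsq := by
    intro v hv
    have h1 := h.Vsq _ (mem_cj.1 hv)
    have h2 := congrArg (fun t => g * t * g⁻¹) h1
    simpa [mul_assoc] using h2
  part := by
    intro v hv hv1
    obtain ⟨p, hp, hvp⟩ := h.part _ (mem_cj.1 hv) (fun e => hv1 (by
      have h2 := congrArg (fun t => g * t * g⁻¹) e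
      simpa [mul_assoc] using h2))
    refine ⟨g * p * g⁻¹, conj_mem_cj hp, ?_⟩
    rw [cj_cj, inv_mul_cancel_right, ← cj_cj, mem_cj]
    exact hvp
  act := by
    intro s hs v hv
    have h1 := h.act _ (mem_cj.1 hs) _ (mem_cj.1 hv)
    rw [mem_cj]
    have e : g⁻¹ * (s * v * s⁻¹ * v⁻¹) * g =
      g⁻¹ * s * g * (g⁻¹ * v * g) * (g⁻¹ * s * g)⁻¹ * (g⁻¹ * v * g)⁻¹ := by group
    rwa [e]
  free := by
    intro s hs v hv hvZ hsv v' hv'
    have h1 := h.free _ (mem_cj.1 hs) _ (mem_cj.1 hv) (fun e => hvZ (mem_cj.2 e)) (by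
      have h2 := congrArg (fun t => g⁻¹ * t * g) hsv
      simpa [mul_assoc] using h2) _ (mem_cj.1 hv')
    have h2 := congrArg (fun t => g * t * g⁻¹) h1
    simpa [mul_assoc] using h2
  full := by
    intro v hv hvZ z hz
    obtain ⟨s, hs, hsz⟩ := h.full _ (mem_cj.1 hv) (fun e => hvZ (mem_cj.2 e)) _ (mem_cj.1 hz)
    refine ⟨g * s * g⁻¹, conj_mem_cj hs, ?_⟩
    have h2 := congrArg (fun t => g * t * g⁻¹) hsz
    simpa [mul_assoc] using h2
  torus := by
    intro s hs t ht hs1 ht1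
    rw [← cj_centralizer, mem_cj] at hs1 ht1
    obtain ⟨k, hk, hkZ, hk2⟩ := h.torus _ (mem_cj.1 hs) _ (mem_cj.1 ht) hs1 ht1
    refine ⟨g * k * g⁻¹, conj_mem_cj hk, ?_, ?_⟩
    · rw [← cj_normalizer]; exact conj_mem_cj hkZ
    · rw [← cj_centralizer, mem_cj]
      have e : g⁻¹ * (g * k * g⁻¹ * s * (g * k * g⁻¹)⁻¹ * t⁻¹) * g =
        k * (g⁻¹ * s * g) * k⁻¹ * (g⁻¹ * t * g)⁻¹ := by group
      rwa [e]
  card := by rw [card_cj, card_cj]; exact h.card
  Wcomm := by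
    rw [ws_cj, ws_cj_left]
    exact conj_le_centralizer h.Wcomm
  ti := by
    intro z hz hz1 x hx
    rw [← cj_normalizer, mem_cj]
    refine h.ti _ (mem_cj.1 hz) (fun e => hz1 ?_) _ ?_
    · have h2 := congrArg (fun t => g * t * g⁻¹) e
      simpa [mul_assoc] using h2
    · have h2 := congrArg (fun t => g⁻¹ * t * g) hx
      simpa [mul_assoc] using h2
  NS := by
    rw [coe_smul, ← cj_normalizer, ← cj_normalizer]
    exact cj_le_cj.2 h.NS
  tor := by
    intro z hz hz1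
    obtain ⟨k, hk, hkZ, hks⟩ := h.tor _ (mem_cj.1 hz) (fun e => hz1 (by
      have h2 := congrArg (fun t => g * t * g⁻¹) e
      simpa [mul_assoc] using h2))
    refine ⟨g * k * g⁻¹, conj_mem_cj hk, ?_, fun s hs => ?_⟩
    · rw [← cj_normalizer]; exact conj_mem_cj hkZ
    · have h1 := hks _ (mem_cj.1 hs)
      have h2 := congrArg (fun t => g * t * g⁻¹) h1
      simpa [mul_assoc] using h2
  NB := by
    rw [← cj_normalizer, ← cj_normalizer]
    exact cj_le_cj.2 h.NB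

/-- The same with another point on `V`. -/
theorem pt {p : G} (hp : p ∈ P) : PB (p • S) (cj p B) P V (cj p Z) := by
  have h1 := h.conj p
  have h2 : cj p P = P := conj_self hp
  have h3 : cj p V = V := cj_eq_iff.2 (h.PN hp)
  rwa [h2, h3] at h1

theorem Vcomm {v w : G} (hv : v ∈ V) (hw : w ∈ V) : v * w = w * v := by
  have h1 := h.Vsq v hv
  have h2 := h.Vsq w hw
  have h3 := h.Vsq (v * w) (V.mul_mem hv hw)
  have hv' : v⁻¹ = v := inv_eq_of_mul_eq_one_left h1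
  have hw' : w⁻¹ = w := inv_eq_of_mul_eq_one_left h2
  have h3' : (v * w)⁻¹ = v * w := inv_eq_of_mul_eq_one_left h3
  rw [mul_inv_rev, hv', hw'] at h3'
  exact h3'.symm

/-- `B ≤ C_G(Z)` -/
theorem B_le : B ≤ centralizer (Z : Set G) := by
  intro s hs
  rw [mem_centralizer_iff]
  exact fun z hz => (h.cen z hz s hs).symm

theorem B_le_N : B ≤ normalizer (Z : Set G) := h.B_le.trans (centralizer_le_normalizer _)

theorem S_le_N : (S : Subgroup G) ≤ normalizer (Z : Set G) := h.SN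

theorem B_eq : B = (S : Subgroup G) ⊓ centralizer (Z : Set G) := by
  apply le_antisymm (le_inf h.BS h.B_le)
  rintro s ⟨hs, hsc⟩
  exact h.mem_B s hs fun z hz => (mem_centralizer_iff.1 hsc z hz).symm

/-- `N_G(S)` normalises `B`. -/
theorem NS_B : normalizer ((S : Subgroup G) : Set G) ≤ normalizer (B : Set G) := by
  intro n hn
  rw [← cj_eq_iff, h.B_eq, cj_inf, cj_centralizer, cj_eq_iff.2 hn, cj_eq_iff.2 (h.NS hn)]

theorem S_le_NB : (S : Subgroup G) ≤ normalizer (B : Set G) := Subgroup.le_normalizer.trans h.NS_B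

/-- `N_G(S) ≤ N_G(V)` -/
theorem NS_V : normalizer ((S : Subgroup G) : Set G) ≤ normalizer (V : Set G) := h.NS_B.trans h.NB

/-- `N_G(B) ≤ N_G(Z)` -/
theorem NB_Z : normalizer (B : Set G) ≤ normalizer (Z : Set G) := by
  have key : ∀ n ∈ normalizer (B : Set G), cj n Z ≤ Z := by
    intro n hn x hx
    have hx' := mem_cj.1 hx
    have hxB : x ∈ B := by
      rw [← cj_eq_iff.2 hn, mem_cj]
      exact h.VB (h.ZV hx')
    refine h.omega x hxB ?_ fun s hs => ?_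
    · have h1 := congrArg (fun t => n * t * n⁻¹) (h.Vsq _ (h.ZV hx'))
      simpa [mul_assoc] using h1
    · have h1 : n⁻¹ * s * n ∈ B := by
        rw [← cj_eq_iff.2 hn, mem_cj] at hs
        exact hs
      have h2 := congrArg (fun t => n * t * n⁻¹) (h.cen _ hx' _ h1)
      simpa [mul_assoc] using h2
  intro n hn
  rw [← cj_eq_iff]
  refine le_antisymm (key n hn) ?_
  rw [le_cj_iff]
  exact key n⁻¹ (inv_mem hn)

/-- `B` is determined by `S` among the groups `C_T(Z)`: a 2-subgroup of `H ⊓ C_G(Z)`, `S ≤ H ≤ N_G(Z)`, lies in a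
conjugate of `B`. -/
theorem exists_le_conjB {H D : Subgroup G} (hS : (S : Subgroup G) ≤ H) (hHZ : H ≤ normalizer (Z : Set G))
    (hD : IsPGroup 2 D) (hDH : D ≤ H) (hDZ : D ≤ centralizer (Z : Set G)) : ∃ m ∈ H, D ≤ cj m B := by
  obtain ⟨m, hm, hmD⟩ := exists_le_conj hS hD hDH
  refine ⟨m, hm, ?_⟩
  rw [h.B_eq, cj_inf, cj_centralizer, cj_eq_iff.2 (hHZ hm)]
  exact le_inf hmD hDZ

/-- **(T2)** points are TI. -/
theorem pt_eq {g z : G} (hz : z ∈ Z) (hz' : z ∈ cj g Z) (hz1 : z ≠ 1) : cj g Z = Z := by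
  obtain ⟨k, hk, hkZ, hks⟩ := h.tor z hz hz1
  -- `T = S^(k⁻¹)` centralises `z`
  have hT : ((k⁻¹ • S : Sylow 2 G) : Subgroup G) ≤ normalizer ((cj g Z : Subgroup G) : Set G) := by
    intro s hs
    refine (h.conj g).ti z hz' hz1 s ?_
    have h1 := hks _ (mem_cj.1 hs)
    have h2 := congrArg (fun t => k⁻¹ * t * k) h1
    simpa [mul_assoc] using h2
  have h2 : ((g • S : Sylow 2 G) : Subgroup G) ≤ normalizer ((cj g Z : Subgroup G) : Set G) := (h.conj g).SN
  obtain ⟨m, hm, hmS⟩ := exists_conj h2 hT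
  -- `n = k m g` normalises `S`
  have hn : k * m * g ∈ normalizer ((S : Subgroup G) : Set G) := by
    rw [← cj_eq_iff]
    have e1 : cj m (cj g (S : Subgroup G)) = cj k⁻¹ (S : Subgroup G) := hmS
    rw [mul_assoc, ← cj_cj, ← cj_cj, e1, cj_cj, mul_inv_cancel, cj_one]
  have h3 := cj_eq_iff.2 (h.NS hn)
  rw [mul_assoc, ← cj_cj, ← cj_cj, cj_eq_iff.2 hm] at h3
  have h4 : cj g Z = cj k⁻¹ Z := by
    rw [← cj_inj (g := k), h3, cj_cj, mul_inv_cancel, cj_one]
  rw [h4, cj_eq_iff]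
  exact inv_mem hkZ

/-- **(T2)**, for two points. -/
theorem pts_eq {X Y : Subgroup G} (hX : IsCj Z X) (hY : IsCj Z Y) {z : G} (hz : z ∈ X) (hz' : z ∈ Y) (hz1 : z ≠ 1) :
    X = Y := by
  obtain ⟨x, rfl⟩ := hX
  obtain ⟨y, rfl⟩ := hY
  have h1 := (h.conj x).pt_eq (g := y * x⁻¹) hz (by rw [cj_cj, inv_mul_cancel_right]; exact hz') hz1
  rw [cj_cj, inv_mul_cancel_right] at h1
  exact h1.symm

theorem pts_inf {X Y : Subgroup G} (hX : IsCj Z X) (hY : IsCj Z Y) (hne : X ≠ Y) : X ⊓ Y = ⊥ := by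
  rw [eq_bot_iff]
  intro z hz
  rw [mem_bot]
  by_contra h1
  exact hne (h.pts_eq hX hY hz.1 hz.2 h1)

/-- TI: an element commuting with a nontrivial element of a point normalises the point. -/
theorem norm_of_comm {X : Subgroup G} (hX : IsCj Z X) {g x : G} (hx : x ∈ X) (hx1 : x ≠ 1) (hgx : g * x = x * g) :
    g ∈ normalizer (X : Set G) := by
  obtain ⟨y, rfl⟩ := hX
  exact (h.conj y).ti x hx hx1 g hgx

/-- the points on `V` are the conjugates of `Z` under `P` -/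
theorem exists_pt {X : Subgroup G} (hX : IsCj Z X) (hXV : X ≤ V) : ∃ p ∈ P, X = cj p Z := by
  obtain ⟨g, rfl⟩ := hX
  obtain ⟨z, hz, hz1⟩ : ∃ z ∈ cj g Z, z ≠ 1 := by
    by_contra hcon
    push Not at hcon
    exact (h.conj g).Zne ((eq_bot_iff_forall _).2 hcon)
  obtain ⟨p, hp, hzp⟩ := h.part z (hXV hz) hz1
  exact ⟨p, hp, h.pts_eq ⟨g, rfl⟩ ⟨p, rfl⟩ hz hzp hz1⟩

theorem pt_le {p : G} (hp : p ∈ P) : cj p Z ≤ V := (h.pt hp).ZV

/-- every line is contained in the `ws` of its points -/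
theorem V_le_ws {X : Subgroup G} (hX : X ≤ V) : V ≤ ws V X := le_ws ⟨1, (cj_one V).symm⟩ hX

theorem Z_le_ws : Z ≤ ws V Z := h.ZV.trans (h.V_le_ws h.ZV)

/-- `ws V X` is abelian for every point `X`. -/
theorem ws_comm {X : Subgroup G} (hX : IsCj Z X) : ws V X ≤ centralizer ((ws V X : Subgroup G) : Set G) := by
  obtain ⟨g, rfl⟩ := hX
  have h1 := (h.conj g).Wcomm
  rwa [ws_cj_left] at h1

theorem ws_sq : ∀ w ∈ ws V Z, w * w = 1 := by
  let E : Subgroup G :=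
    { carrier := {x | x ∈ ws V Z ∧ x * x = 1}
      one_mem' := ⟨one_mem _, one_mul 1⟩
      mul_mem' := by
        rintro x y ⟨hx, hx2⟩ ⟨hy, hy2⟩
        refine ⟨mul_mem hx hy, ?_⟩
        have h1 : y * x = x * y := mem_centralizer_iff.1 (h.Wcomm hx) y hy
        calc x * y * (x * y) = x * (y * x) * y := by group
          _ = x * (x * y) * y := by rw [h1]
          _ = x * x * (y * y) := by group
          _ = 1 := by rw [hx2, hy2, one_mul]
      inv_mem' := by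
        rintro x ⟨hx, hx2⟩
        refine ⟨inv_mem hx, ?_⟩
        rw [← mul_inv_rev, hx2, inv_one] }
  have h1 : ws V Z ≤ E := by
    refine ws_le fun L hL hZL v hv => ⟨le_ws hL hZL hv, ?_⟩
    obtain ⟨g, rfl⟩ := hL
    exact (h.conj g).Vsq v hv
  exact fun w hw => (h1 hw).2

/-- `ws V X` is elementary abelian. -/
theorem ws_sq' {X : Subgroup G} (hX : IsCj Z X) : ∀ w ∈ ws V X, w * w = 1 := by
  obtain ⟨g, rfl⟩ := hX
  have h1 := (h.conj g).ws_sq
  rwa [ws_cj_left] at h1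

/-- `ws V Z ≤ B` -/
theorem ws_le_B : ws V Z ≤ B := by
  have : Fact (Nat.Prime 2) := ⟨Nat.prime_two⟩
  have hW : IsPGroup 2 (ws V Z) := fun w => ⟨1, by
    rw [pow_one, pow_two]; exact Subtype.ext (h.ws_sq w w.2)⟩
  have hSN : (S : Subgroup G) ≤ normalizer ((ws V Z : Subgroup G) : Set G) := h.S_le_N.trans (normalizer_le_ws V Z)
  have h1 : IsPGroup 2 ((S : Subgroup G) ⊔ ws V Z : Subgroup G) := S.isPGroup'.to_sup_of_normal_right' hW hSN
  have h2 := S.is_maximal' h1 le_sup_left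
  have h3 : ws V Z ≤ (S : Subgroup G) := by
    rw [← h2]
    exact le_sup_right
  rw [h.B_eq]
  exact le_inf h3 (h.Wcomm.trans (centralizer_le h.Z_le_ws))

theorem ws_le_S : ws V Z ≤ (S : Subgroup G) := h.ws_le_B.trans h.BS

theorem isPGroup_of_le {A : Subgroup G} (hA : A ≤ B) : IsPGroup 2 A := S.isPGroup'.to_le (hA.trans h.BS)

theorem one_lt_card : 1 < Nat.card Z := by
  have := (Subgroup.nontrivial_iff_ne_bot Z).2 h.Zne
  exact Finite.one_lt_card

theorem isCj_self : IsCj Z Z := ⟨1, (cj_one Z).symm⟩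

theorem card_pt {X : Subgroup G} (hX : IsCj Z X) : Nat.card X = Nat.card Z := by
  obtain ⟨g, rfl⟩ := hX
  exact card_cj g Z

theorem pt_ne_bot {X : Subgroup G} (hX : IsCj Z X) : ∃ x ∈ X, x ≠ 1 := by
  obtain ⟨g, rfl⟩ := hX
  by_contra hcon
  push Not at hcon
  exact (h.conj g).Zne ((eq_bot_iff_forall _).2 hcon)

theorem exists_out : ∃ v ∈ V, v ∉ Z := by
  by_contra hcon
  push Not at hcon
  have h1 := Subgroup.card_le_of_le hcon
  have h2 := h.one_lt_card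
  rw [h.card] at h1
  nlinarith

/-- every nontrivial element of `V` is in a point on `V` -/
theorem exists_point {v : G} (hv : v ∈ V) (hv1 : v ≠ 1) : ∃ X, IsCj Z X ∧ X ≤ V ∧ v ∈ X := by
  obtain ⟨p, hp, hvp⟩ := h.part v hv hv1
  exact ⟨cj p Z, ⟨p, rfl⟩, h.pt_le hp, hvp⟩

/-- `V = X Y` for two points on `V` -/
theorem exists_mul {X Y : Subgroup G} (hX : IsCj Z X) (hXV : X ≤ V) (hY : IsCj Z Y) (hYV : Y ≤ V) (hne : X ≠ Y)
    {v : G} (hv : v ∈ V) : ∃ x ∈ X, ∃ y ∈ Y, v = x * y := by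
  have hn : Y ≤ normalizer (X : Set G) := by
    refine le_trans ?_ (centralizer_le_normalizer _)
    intro y hy
    rw [mem_centralizer_iff]
    exact fun x hx => h.Vcomm (hXV hx) (hYV hy)
  have h1 := card_sup_mul hn
  rw [h.pts_inf hX hY hne, card_bot, mul_one, h.card_pt hX, h.card_pt hY, ← h.card] at h1
  have h2 : X ⊔ Y = V := Subgroup.eq_of_le_of_card_ge (sup_le hXV hYV) h1.ge
  rw [← h2, ← SetLike.mem_coe, coe_mul_of_right_le_normalizer_left X Y hn] at hv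
  obtain ⟨x, hx, y, hy, rfl⟩ := hv
  exact ⟨x, hx, y, hy, rfl⟩

/-- a third point -/
theorem exists_third {X Y : Subgroup G} (hX : IsCj Z X) (hXV : X ≤ V) (hY : IsCj Z Y) (hYV : Y ≤ V) (hne : X ≠ Y) :
    ∃ T, IsCj Z T ∧ T ≤ V ∧ T ≠ X ∧ T ≠ Y := by
  obtain ⟨x, hx, hx1⟩ := h.pt_ne_bot hX
  obtain ⟨y, hy, hy1⟩ := h.pt_ne_bot hY
  have h1 : x * y ∉ X := fun e => hne (h.pts_eq hX hY ((X.mul_mem_cancel_left hx).1 e) hy hy1)
  have h2 : x * y ∉ Y := fun e => hne (h.pts_eq hX hY hx ((Y.mul_mem_cancel_right hy).1 e) hx1)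
  obtain ⟨T, hT, hTV, hxyT⟩ := h.exists_point (V.mul_mem (hXV hx) (hYV hy))
    (fun e => h1 (by rw [e]; exact one_mem _))
  exact ⟨T, hT, hTV, fun e => h1 (e ▸ hxyT), fun e => h2 (e ▸ hxyT)⟩

/-- a second point -/
theorem exists_second {X : Subgroup G} (hX : IsCj Z X) (hXV : X ≤ V) : ∃ T, IsCj Z T ∧ T ≤ V ∧ T ≠ X := by
  obtain ⟨v, hv, hvX⟩ : ∃ v ∈ V, v ∉ X := by
    by_contra hcon
    push Not at hcon
    have h1 := Subgroup.card_le_of_le hcon
    have h2 := h.one_lt_card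
    rw [h.card, h.card_pt hX] at h1
    nlinarith
  obtain ⟨T, hT, hTV, hvT⟩ := h.exists_point hv (fun e => hvX (by rw [e]; exact one_mem _))
  exact ⟨T, hT, hTV, fun e => hvX (e ▸ hvT)⟩

/-- the flag `(X, V)` -/
theorem exists_flag {X : Subgroup G} (hX : IsCj Z X) (hXV : X ≤ V) :
    ∃ (T : Sylow 2 G) (C : Subgroup G), PB T C P V X := by
  obtain ⟨p, hp, rfl⟩ := h.exists_pt hX hXV
  exact ⟨p • S, cj p B, h.pt hp⟩

/-! ### (T3') -/

/-- A 2-element which centralises `Z`, normalises `V` and commutes with some `v ∈ V - Z`, centralises `V`. -/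
theorem two_line {g v : G} (hg : TwoEl g) (hgZ : g ∈ centralizer (Z : Set G)) (hgV : g ∈ normalizer (V : Set G))
    (hv : v ∈ V) (hvZ : v ∉ Z) (hgv : g * v = v * g) : g ∈ centralizer (V : Set G) := by
  have h1 : (S : Subgroup G) ≤ normalizer (V : Set G) ⊓ normalizer (Z : Set G) := le_inf (h.SP.trans h.PN) h.SN
  obtain ⟨m, hm, hmB⟩ := h.exists_le_conjB h1 inf_le_right hg.isPGroup
    (zpowers_le.2 ⟨hgV, centralizer_le_normalizer _ hgZ⟩) (zpowers_le.2 hgZ)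
  have h2 := h.conj m
  rw [cj_eq_iff.2 hm.1, cj_eq_iff.2 hm.2] at h2
  rw [mem_centralizer_iff]
  exact fun v' hv' => (h2.free g (hmB (mem_zpowers g)) v hv hvZ hgv v' hv').symm

/-- The same for any flag `X ≤ V`. -/
theorem two_line' {X : Subgroup G} (hX : IsCj Z X) (hXV : X ≤ V) {g v : G} (hg : TwoEl g)
    (hgX : g ∈ centralizer (X : Set G)) (hgV : g ∈ normalizer (V : Set G)) (hv : v ∈ V) (hvX : v ∉ X)
    (hgv : g * v = v * g) : g ∈ centralizer (V : Set G) := by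
  obtain ⟨T, C, h'⟩ := h.exists_flag hX hXV
  exact h'.two_line hg hgX hgV hv hvX hgv

/-- **(T3')** for two points `X ≠ Y` on `V`: a 2-element which centralises `X` and commutes with `1 ≠ y ∈ Y`, centralises `V`. -/
theorem two_col {X Y : Subgroup G} (hX : IsCj Z X) (hXV : X ≤ V) (hY : IsCj Z Y) (hYV : Y ≤ V) (hne : X ≠ Y) {g y : G}
    (hg : TwoEl g) (hgX : g ∈ centralizer (X : Set G)) (hy : y ∈ Y) (hy1 : y ≠ 1) (hgy : g * y = y * g) :
    g ∈ centralizer (V : Set G) := by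
  have hgY := h.norm_of_comm hY hy hy1 hgy
  have hgV : g ∈ normalizer (V : Set G) := by
    have key : ∀ g : G, g ∈ centralizer (X : Set G) → g ∈ normalizer (Y : Set G) → cj g V ≤ V := by
      intro g hgX hgY
      rw [cj_le_iff]
      intro v hv
      obtain ⟨x, hx, y, hy, rfl⟩ := h.exists_mul hX hXV hY hYV hne hv
      refine mul_mem ?_ ?_
      · rw [mem_cj, inv_inv]
        have := mem_centralizer_iff.1 hgX x hx
        rw [← this, mul_inv_cancel_right]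
        exact hXV hx
      · rw [mem_cj, inv_inv]
        exact hYV ((mem_normalizer_iff.1 hgY y).1 hy)
    rw [← cj_eq_iff]
    refine le_antisymm (key g hgX hgY) ?_
    rw [le_cj_iff]
    exact key g⁻¹ (inv_mem hgX) (inv_mem hgY)
  refine h.two_line' hX hXV hg hgX hgV (hYV hy) (fun e => hne (h.pts_eq hX hY e hy hy1)) hgy

/-- **(T3')** for any line `L`. -/
theorem two_col' {L X Y : Subgroup G} (hL : IsCj V L) (hX : IsCj Z X) (hXL : X ≤ L) (hY : IsCj Z Y) (hYL : Y ≤ L)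
    (hne : X ≠ Y) {g y : G} (hg : TwoEl g) (hgX : g ∈ centralizer (X : Set G)) (hy : y ∈ Y) (hy1 : y ≠ 1)
    (hgy : g * y = y * g) : g ∈ centralizer (L : Set G) := by
  obtain ⟨a, rfl⟩ := hL
  exact (h.conj a).two_col (isCj_cj.2 hX) hXL (isCj_cj.2 hY) hYL hne hg hgX hy hy1 hgy

end PB

end Cfsg.Agent.Omega.NO3S.PT

end

section


/-!
# NO-3S, socket `Fld`: LEMMA U at every level, K-free

`LemU.lean` for a group `A` which is only elementary abelian modulo `C_A(X)`, `X` an elementary abelian `P`-invariant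
group which contains `V` and `E`; `A` is an offender on `U = V ⟨E^P⟩`, and there is no over-offender `K ≤ A ∩ Q` on the
conjugates of `E` under `P`.

`HypX.lemU` : `E ≤ Q ∩ X`, `[E, Q] ≤ R = {e (a, 0)}` ⟹ `[E, Q] = 1`.
-/

set_option autoImplicit false
set_option linter.unusedSectionVars false

namespace Cfsg.Agent.Omega.NO3S.Fld.LemU

open Subgroup Cfsg.Agent.Omega.NO3b.Ineq Cfsg.Agent.Omega.NO3S.PT
open scoped Pointwise

variable {G : Type*} [Group G] {F : Type*} [Field F]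

/-- **The hypotheses of LEMMA U, module form.** -/
structure HypX (P Q V A E X : Subgroup G) (e : (Fin 2 → F) → G) : Prop where
  QP : Q ≤ P
  Qn : P ≤ normalizer (Q : Set G)
  Vn : P ≤ normalizer (V : Set G)
  VQ : V ≤ Q
  QV : Q ≤ centralizer (V : Set G)
  e_add : ∀ x y, e (x + y) = e x * e y
  e_inj : Function.Injective e
  mem_iff : ∀ g, g ∈ V ↔ ∃ x, e x = g
  Xel : El X
  PX : P ≤ normalizer (X : Set G)
  VX : V ≤ X
  EX : E ≤ X
  AP : A ≤ P
  Aco : ∀ a ∈ A, ∀ b ∈ A, a * b * a⁻¹ * b⁻¹ ∈ centralizer (X : Set G)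
  off : cidx (UU P V E) A ≤ cidx A (UU P V E)
  act : ∀ a ∈ A, ∃ t : F, ∀ x, a * e x * a⁻¹ = e ![x 0 + t * x 1, x 1]
  full : ∀ t : F, ∃ a ∈ A, ∀ x, a * e x * a⁻¹ = e ![x 0 + t * x 1, x 1]
  AQ : A ⊓ centralizer (V : Set G) ≤ Q
  swap : ∃ w ∈ P, ∀ x, w * e x * w⁻¹ = e ![x 1, x 0]
  EQ : E ≤ Q
  ER : ∀ x ∈ E, ∀ t ∈ Q, ∃ a : F, t * x * t⁻¹ * x⁻¹ = e ![a, 0]
  no : ∀ K : Subgroup G, K ≤ A ⊓ Q → ∀ g ∈ P, cidx K (cj g E) ≤ cidx (cj g E) K

namespace HypX

open Hyp (WW Psi)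

variable {P Q V A E X : Subgroup G} {e : (Fin 2 → F) → G} (h : HypX P Q V A E X e)
include h

theorem e_zero : e 0 = 1 := by
  have := h.e_add 0 0
  rw [add_zero] at this
  exact left_eq_mul.1 this

theorem e_mem (x : Fin 2 → F) : e x ∈ V := (h.mem_iff _).2 ⟨x, rfl⟩

theorem Vsq {v : G} (hv : v ∈ V) : v * v = 1 := h.Xel.2 v (h.VX hv)

theorem Eg_Q {g : G} (hg : g ∈ P) : cj g E ≤ Q := by
  have h1 : cj g E ≤ cj g Q := cj_le_cj.2 h.EQ
  rwa [cj_eq_iff.2 (h.Qn hg)] at h1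

theorem Eg_X {g : G} (hg : g ∈ P) : cj g E ≤ X := by
  have h1 : cj g E ≤ cj g X := cj_le_cj.2 h.EX
  rwa [cj_eq_iff.2 (h.PX hg)] at h1

theorem V_le : V ≤ UU P V E := le_sSup (Or.inl rfl)

theorem E_le {g : G} (hg : g ∈ P) : cj g E ≤ UU P V E := le_sSup (Or.inr ⟨g, hg, rfl⟩)

theorem U_le_Q : UU P V E ≤ Q := by
  refine sSup_le ?_
  rintro L (rfl | ⟨g, hg, rfl⟩)
  · exact h.VQ
  · exact h.Eg_Q hg

theorem U_le_X : UU P V E ≤ X := by
  refine sSup_le ?_
  rintro L (rfl | ⟨g, hg, rfl⟩)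
  · exact h.VX
  · exact h.Eg_X hg

theorem U_comm' {x y : G} (hx : x ∈ UU P V E) (hy : y ∈ UU P V E) : x * y = y * x :=
  h.Xel.1 x (h.U_le_X hx) y (h.U_le_X hy)

theorem U_sq : ∀ u ∈ UU P V E, u * u = 1 := fun u hu => h.Xel.2 u (h.U_le_X hu)

/-- `a (α x α⁻¹) a⁻¹ = α (a x a⁻¹) α⁻¹` on `X` -/
theorem swapA {a α x : G} (ha : a ∈ A) (hα : α ∈ A) (hx : x ∈ X) :
    a * (α * x * α⁻¹) * a⁻¹ = α * (a * x * a⁻¹) * α⁻¹ := by
  have h1 := h.Aco α⁻¹ (inv_mem hα) a⁻¹ (inv_mem ha)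
  have h2 := mem_centralizer_iff.1 h1 x hx
  -- `c = α⁻¹ a⁻¹ α a`
  have e1 : α⁻¹ * a⁻¹ * α⁻¹⁻¹ * a⁻¹⁻¹ = α⁻¹ * a⁻¹ * α * a := by group
  rw [e1] at h2
  calc a * (α * x * α⁻¹) * a⁻¹ = a * α * (x * (α⁻¹ * a⁻¹ * α * a)) * a⁻¹ * α⁻¹ := by group
    _ = a * α * ((α⁻¹ * a⁻¹ * α * a) * x) * a⁻¹ * α⁻¹ := by rw [h2]
    _ = α * (a * x * a⁻¹) * α⁻¹ := by group

/-- `[U, Q] ≤ V` -/
theorem UQ {u t : G} (hu : u ∈ UU P V E) (ht : t ∈ Q) : t * u * t⁻¹ * u⁻¹ ∈ V := by
  let T : Subgroup G :=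
    { carrier := {x | x ∈ Q ∧ ∀ t ∈ Q, t * x * t⁻¹ * x⁻¹ ∈ V}
      one_mem' := ⟨one_mem _, fun t _ => by simp⟩
      mul_mem' := by
        rintro x y ⟨hx, hx2⟩ ⟨hy, hy2⟩
        refine ⟨mul_mem hx hy, fun t ht => ?_⟩
        have h1 : t * (x * y) * t⁻¹ * (x * y)⁻¹ = t * x * t⁻¹ * x⁻¹ * (x * (t * y * t⁻¹ * y⁻¹) * x⁻¹) := by group
        have h2 := mem_centralizer_iff.1 (h.QV hx) _ (hy2 t ht)
        rw [h1, ← h2, mul_inv_cancel_right]
        exact mul_mem (hx2 t ht) (hy2 t ht)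
      inv_mem' := by
        rintro x ⟨hx, hx2⟩
        refine ⟨inv_mem hx, fun t ht => ?_⟩
        have h1 : t * x⁻¹ * t⁻¹ * x⁻¹⁻¹ = x⁻¹ * ((x * (t * x⁻¹ * t⁻¹))) * x := by group
        have h3 : x * (t * x⁻¹ * t⁻¹) = (t * x * t⁻¹ * x⁻¹)⁻¹ := by group
        have h2 := mem_centralizer_iff.1 (h.QV (inv_mem hx)) _ (inv_mem (hx2 t ht))
        rw [h1, h3, ← h2, inv_mul_cancel_right]
        exact inv_mem (hx2 t ht) }
  have h1 : UU P V E ≤ T := by
    refine sSup_le ?_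
    rintro L (rfl | ⟨g, hg, rfl⟩) x hx
    · refine ⟨h.VQ hx, fun t ht => ?_⟩
      have := mem_centralizer_iff.1 (h.QV ht) x hx
      rw [← this, mul_inv_cancel_right, mul_inv_cancel]
      exact one_mem _
    · refine ⟨h.Eg_Q hg hx, fun t ht => ?_⟩
      have htg : g⁻¹ * t * g ∈ Q := by
        have := (mem_normalizer_iff.1 (h.Qn (inv_mem hg)) t).1 ht
        rwa [inv_inv] at this
      obtain ⟨a, ha⟩ := h.ER _ (mem_cj.1 hx) _ htg
      have h2 : g⁻¹ * t * g * (g⁻¹ * x * g) * (g⁻¹ * t * g)⁻¹ * (g⁻¹ * x * g)⁻¹ ∈ V := by rw [ha]; exact h.e_mem _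
      have h3 := (mem_normalizer_iff.1 (h.Vn hg) _).1 h2
      have h4 : g * (g⁻¹ * t * g * (g⁻¹ * x * g) * (g⁻¹ * t * g)⁻¹ * (g⁻¹ * x * g)⁻¹) * g⁻¹ = t * x * t⁻¹ * x⁻¹ := by
        group
      rwa [h4] at h3
  exact (h1 hu).2 t ht

theorem co_e (x : Fin 2 → F) : co e (e x) = x := by
  have hx : ∃ y, e y = e x := ⟨x, rfl⟩
  rw [co, dif_pos hx]
  exact h.e_inj hx.choose_spec

theorem e_co {v : G} (hv : v ∈ V) : e (co e v) = v := by
  obtain ⟨x, rfl⟩ := (h.mem_iff v).1 hv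
  rw [h.co_e]

theorem co_mul {v w : G} (hv : v ∈ V) (hw : w ∈ V) : co e (v * w) = co e v + co e w := by
  obtain ⟨x, rfl⟩ := (h.mem_iff v).1 hv
  obtain ⟨y, rfl⟩ := (h.mem_iff w).1 hw
  rw [← h.e_add, h.co_e, h.co_e, h.co_e]

theorem co_one : co e 1 = 0 := by rw [← h.e_zero, h.co_e]

theorem aQ (a : (A ⊓ Q : Subgroup G)) : (a : G) ∈ Q := a.2.2

theorem ff_mem {u : G} (hu : u ∈ UU P V E) (a : (A ⊓ Q : Subgroup G)) : (a : G) * u * (a : G)⁻¹ * u⁻¹ ∈ V :=
  h.UQ hu a.2.2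

theorem ff_mul {u v : G} (hu : u ∈ UU P V E) (hv : v ∈ UU P V E) : ff A Q e (u * v) = ff A Q e u + ff A Q e v := by
  funext a
  have h1 := h.ff_mem hu a
  have h2 := h.ff_mem hv a
  show co e _ = co e _ + co e _
  rw [← h.co_mul h1 h2]
  congr 1
  have h3 := h.U_comm' hu (h.V_le h2)
  calc (a : G) * (u * v) * (a : G)⁻¹ * (u * v)⁻¹
      = a * u * (a : G)⁻¹ * (a * v * (a : G)⁻¹ * v⁻¹) * u⁻¹ := by group
    _ = a * u * (a : G)⁻¹ * u⁻¹ * (u * (a * v * (a : G)⁻¹ * v⁻¹)) * u⁻¹ := by group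
    _ = a * u * (a : G)⁻¹ * u⁻¹ * ((a * v * (a : G)⁻¹ * v⁻¹) * u) * u⁻¹ := by rw [h3]
    _ = _ := by group

theorem ff_act {u : G} (hu : u ∈ UU P V E) (a b : (A ⊓ Q : Subgroup G)) :
    ff A Q e u (a * b) = ff A Q e u a + ff A Q e u b := by
  have h1 := h.ff_mem hu a
  have h2 := h.ff_mem hu b
  show co e _ = co e _ + co e _
  rw [← h.co_mul h1 h2]
  congr 1
  have h3 := mem_centralizer_iff.1 (h.QV (h.aQ a)) _ h2
  have h4 := h.U_comm' (h.V_le h1) (h.V_le h2)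
  calc ((a * b : (A ⊓ Q : Subgroup G)) : G) * u * ((a * b : (A ⊓ Q : Subgroup G)) : G)⁻¹ * u⁻¹
      = (a : G) * b * u * ((a : G) * b)⁻¹ * u⁻¹ := rfl
    _ = a * (b * u * (b : G)⁻¹ * u⁻¹) * (a : G)⁻¹ * (a * u * (a : G)⁻¹ * u⁻¹) := by group
    _ = (b * u * (b : G)⁻¹ * u⁻¹) * a * (a : G)⁻¹ * (a * u * (a : G)⁻¹ * u⁻¹) := by rw [← h3]
    _ = (b * u * (b : G)⁻¹ * u⁻¹) * (a * u * (a : G)⁻¹ * u⁻¹) := by group
    _ = _ := h4.symm

theorem ff_eq_zero {u : G} (hu : u ∈ UU P V E) :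
    ff A Q e u = 0 ↔ u ∈ centralizer ((A ⊓ Q : Subgroup G) : Set G) := by
  rw [mem_centralizer_iff]
  constructor
  · intro h1 a ha
    have h2 := congrFun h1 ⟨a, ha⟩
    have h3 : a * u * a⁻¹ * u⁻¹ = 1 := by
      rw [← h.e_co (h.ff_mem hu ⟨a, ha⟩)]
      show e (ff A Q e u ⟨a, ha⟩) = 1
      rw [h2]
      exact h.e_zero
    rwa [mul_inv_eq_one, mul_inv_eq_iff_eq_mul] at h3
  · intro h1
    funext a
    show co e _ = 0
    have h2 := h1 a a.2
    rw [h2, mul_inv_cancel_right, mul_inv_cancel, h.co_one]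

/-- the homomorphism `W → (A ∩ Q → F²)` -/
noncomputable def hom {W : Subgroup G} (hW : W ≤ UU P V E) : W →* Multiplicative ((A ⊓ Q : Subgroup G) → Fin 2 → F) :=
  MonoidHom.mk' (fun u => Multiplicative.ofAdd (ff A Q e u)) (by
    rintro ⟨u, hu⟩ ⟨v, hv⟩
    exact congrArg Multiplicative.ofAdd (h.ff_mul (hW hu) (hW hv)))

theorem hom_apply {W : Subgroup G} (hW : W ≤ UU P V E) (u : W) :
    h.hom hW u = Multiplicative.ofAdd (ff A Q e u) := rfl

theorem cidx_eq {W : Subgroup G} (hW : W ≤ UU P V E) :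
    cidx W (A ⊓ Q) = Nat.card (h.hom hW).range := by
  have h1 : (h.hom hW).ker = (centralizer ((A ⊓ Q : Subgroup G) : Set G)).subgroupOf W := by
    ext u
    rw [MonoidHom.mem_ker, mem_subgroupOf, ← h.ff_eq_zero (hW u.2), h.hom_apply]
    exact ⟨fun h1 => congrArg Multiplicative.toAdd h1, fun h1 => congrArg Multiplicative.ofAdd h1⟩
  rw [cidx, relIndex, ← h1, Subgroup.index_ker]


/-! ### The linear algebra -/

/-- the conjugate `D = E^w` -/
theorem D_co {w : G} (hw : w ∈ P) (hwe : ∀ x, w * e x * w⁻¹ = e ![x 1, x 0]) {d t : G} (hd : d ∈ cj w E) (ht : t ∈ Q) :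
    ∃ b : F, t * d * t⁻¹ * d⁻¹ = e ![0, b] := by
  have htg : w⁻¹ * t * w ∈ Q := by
    have := (mem_normalizer_iff.1 (h.Qn (inv_mem hw)) t).1 ht
    rwa [inv_inv] at this
  obtain ⟨a, ha⟩ := h.ER _ (mem_cj.1 hd) _ htg
  refine ⟨a, ?_⟩
  have h4 : w * (w⁻¹ * t * w * (w⁻¹ * d * w) * (w⁻¹ * t * w)⁻¹ * (w⁻¹ * d * w)⁻¹) * w⁻¹ = t * d * t⁻¹ * d⁻¹ := by
    group
  rw [← h4, ha, hwe]
  rfl

theorem WW_le {w : G} (hw : w ∈ P) : WW A (cj w E) ≤ UU P V E := by
  refine sSup_le ?_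
  rintro L ⟨a, ha, rfl⟩
  rw [cj_cj]
  exact h.E_le (mul_mem (h.AP ha) hw)

theorem conj_mem_WW {D : Subgroup G} {a d : G} (ha : a ∈ A) (hd : d ∈ D) : a * d * a⁻¹ ∈ WW A D :=
  (le_sSup ⟨a, ha, rfl⟩ : cj a D ≤ WW A D) (conj_mem_cj hd)

theorem D_le_WW {D : Subgroup G} : D ≤ WW A D := by
  intro d hd
  have := h.conj_mem_WW (one_mem A) hd
  simpa using this

/-- the second coordinates of `[D, a]` -/
theorem ff_zero {w : G} (hw : w ∈ P) (hwe : ∀ x, w * e x * w⁻¹ = e ![x 1, x 0]) {d : G} (hd : d ∈ cj w E)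
    (a : (A ⊓ Q : Subgroup G)) : ff A Q e d a 0 = 0 := by
  obtain ⟨b, hb⟩ := h.D_co hw hwe hd (h.aQ a)
  show co e _ 0 = 0
  rw [hb, h.co_e]
  rfl

/-- `[a, d^α] = [a, d]^α` -/
theorem ff_conj {d α : G} (hd : d ∈ UU P V E) (hα : α ∈ A) {t : F}
    (ht : ∀ x, α * e x * α⁻¹ = e ![x 0 + t * x 1, x 1]) (a : (A ⊓ Q : Subgroup G)) :
    ff A Q e (α * d * α⁻¹) a = ![ff A Q e d a 0 + t * ff A Q e d a 1, ff A Q e d a 1] := by
  have h1 := h.ff_mem hd a
  have h2 : (a : G) * (α * d * α⁻¹) * (a : G)⁻¹ * (α * d * α⁻¹)⁻¹ = α * (a * d * (a : G)⁻¹ * d⁻¹) * α⁻¹ := by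
    rw [h.swapA a.2.1 hα (h.U_le_X hd)]
    group
  show co e _ = _
  rw [h2, ← h.e_co h1, ht, h.co_e]
  rfl

/-- the set of second coordinates -/
noncomputable def homD (w : G) (hw : w ∈ P) : cj w E →* Multiplicative ((A ⊓ Q : Subgroup G) → F) :=
  MonoidHom.mk' (fun u => Multiplicative.ofAdd (fun a => ff A Q e u a 1)) (by
    rintro ⟨u, hu⟩ ⟨v, hv⟩
    refine congrArg Multiplicative.ofAdd ?_
    show (fun a => ff A Q e (u * v) a 1) = fun a => ff A Q e u a 1 + ff A Q e v a 1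
    rw [h.ff_mul (h.E_le hw hu) (h.E_le hw hv)]
    rfl)

theorem Psi_real {w : G} (hw : w ∈ P) (hwe : ∀ x, w * e x * w⁻¹ = e ![x 1, x 0]) {ψ : (A ⊓ Q : Subgroup G) → F}
    (hψ : ψ ∈ Psi A Q e (cj w E)) : ∃ u ∈ WW A (cj w E), ∀ a, ff A Q e u a = ![ψ a, 0] := by
  induction hψ using Submodule.closure_induction with
  | zero =>
    refine ⟨1, one_mem _, fun a => ?_⟩
    have h1 := (h.ff_eq_zero (one_mem _)).2 (one_mem _)
    rw [h1]
    exact ext2 rfl rfl
  | add x y _ _ hx hy =>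
    obtain ⟨u, hu, hux⟩ := hx
    obtain ⟨v, hv, hvy⟩ := hy
    refine ⟨u * v, mul_mem hu hv, fun a => ?_⟩
    rw [h.ff_mul (h.WW_le hw hu) (h.WW_le hw hv), Pi.add_apply, hux, hvy]
    exact ext2 rfl (add_zero _)
  | smul_mem t φ hφ =>
    obtain ⟨d, hd, rfl⟩ := hφ
    obtain ⟨α, hα, hαt⟩ := h.full t
    have hdU := h.E_le hw hd
    have h1 := h.conj_mem_WW hα hd
    refine ⟨α * d * α⁻¹ * d⁻¹, mul_mem h1 (inv_mem (h.D_le_WW hd)), fun a => ?_⟩
    rw [h.ff_mul (h.WW_le hw h1) (inv_mem hdU), Pi.add_apply, h.ff_conj hdU hα hαt]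
    have h2 : ff A Q e d⁻¹ a = ff A Q e d a := by
      rw [inv_eq_of_mul_eq_one_left (h.U_sq d hdU)]
    have h3 := h.ff_zero hw hwe hd a
    have hF2 : ∀ x : F, x + x = 0 := by
      intro x
      have h4 := h.Vsq (h.e_mem ![x, 0])
      rw [← h.e_add, ← h.e_zero] at h4
      have h5 := congrFun (h.e_inj h4) 0
      simpa using h5
    rw [h2]
    refine ext2 ?_ ?_
    · show ff A Q e d a 0 + t * ff A Q e d a 1 + ff A Q e d a 0 = (t • fun a => ff A Q e d a 1) a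
      rw [h3, zero_add, add_zero]
      rfl
    · show ff A Q e d a 1 + ff A Q e d a 1 = 0
      exact hF2 _

variable [Finite G] [Finite F]

theorem card_psi_le {w : G} (hw : w ∈ P) (hwe : ∀ x, w * e x * w⁻¹ = e ![x 1, x 0]) :
    (centralizer ((cj w E : Subgroup G) : Set G)).relIndex (A ⊓ Q) ≤ Nat.card (Psi A Q e (cj w E)) := by
  have hadd : ∀ ψ ∈ Psi A Q e (cj w E), ∀ a b : (A ⊓ Q : Subgroup G), ψ (a * b) = ψ a + ψ b := by
    intro ψ hψ
    induction hψ using Submodule.span_induction with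
    | mem φ hφ =>
      obtain ⟨d, hd, rfl⟩ := hφ
      intro a b
      show ff A Q e d (a * b) 1 = _
      rw [h.ff_act (h.E_le hw hd)]
      rfl
    | zero => intro a b; simp
    | add x y _ _ hx hy =>
      intro a b
      simp only [Pi.add_apply, hx, hy]
      ring
    | smul t x _ hx =>
      intro a b
      simp only [Pi.smul_apply, hx, smul_add]
  let ev : (A ⊓ Q : Subgroup G) →* Multiplicative (Module.Dual F (Psi A Q e (cj w E))) :=
    MonoidHom.mk' (fun a => Multiplicative.ofAdd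
      ({ toFun := fun ψ => (ψ : (A ⊓ Q : Subgroup G) → F) a
         map_add' := fun _ _ => rfl
         map_smul' := fun _ _ => rfl } : Psi A Q e (cj w E) →ₗ[F] F)) (by
      intro a b
      refine congrArg Multiplicative.ofAdd ?_
      ext ψ
      exact hadd ψ ψ.2 a b)
  have hker : ev.ker = (centralizer ((cj w E : Subgroup G) : Set G)).subgroupOf (A ⊓ Q) := by
    ext a
    rw [MonoidHom.mem_ker, mem_subgroupOf]
    constructor
    · intro h1
      refine mem_centralizer_iff.2 fun d hd => ?_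
      have h2 : (fun a => ff A Q e d a 1) ∈ Psi A Q e (cj w E) := Submodule.subset_span ⟨d, hd, rfl⟩
      have h3 := LinearMap.congr_fun (congrArg Multiplicative.toAdd h1) ⟨_, h2⟩
      have h4 : ff A Q e d a 1 = 0 := h3
      have h5 : ff A Q e d a = 0 := ext2 (h.ff_zero hw hwe hd a) h4
      have h6 := h.e_co (h.ff_mem (h.E_le hw hd) a)
      have h7 : (a : G) * d * (a : G)⁻¹ * d⁻¹ = 1 := by
        rw [← h6]
        show e (ff A Q e d a) = 1
        rw [h5]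
        exact h.e_zero
      rw [mul_inv_eq_one, mul_inv_eq_iff_eq_mul] at h7
      exact h7.symm
    · intro h1
      refine congrArg Multiplicative.ofAdd (?_ : _ = (0 : Module.Dual F (Psi A Q e (cj w E))))
      ext ⟨ψ, hψ⟩
      show ψ a = 0
      induction hψ using Submodule.span_induction with
      | mem φ hφ =>
        obtain ⟨d, hd, rfl⟩ := hφ
        show co e _ 1 = 0
        have h2 := mem_centralizer_iff.1 h1 d hd
        rw [← h2, mul_inv_cancel_right, mul_inv_cancel, h.co_one]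
        rfl
      | zero => rfl
      | add x y _ _ hx hy =>
        rw [Pi.add_apply, hx, hy, add_zero]
      | smul t x _ hx =>
        rw [Pi.smul_apply, hx, smul_zero]
  have h1 : Nat.card (Module.Dual F (Psi A Q e (cj w E))) = Nat.card (Psi A Q e (cj w E)) := by
    have : Fintype F := Fintype.ofFinite F
    rw [Module.natCard_eq_pow_finrank (K := F), Module.natCard_eq_pow_finrank (K := F) (V := Psi A Q e (cj w E)),
      Subspace.dual_finrank_eq]
  rw [← h1, relIndex, ← hker, Subgroup.index_ker]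
  have : Finite (Module.Dual F (Psi A Q e (cj w E))) := by
    have : Finite (Psi A Q e (cj w E) → F) := inferInstance
    exact Finite.of_injective (fun (f : Module.Dual F (Psi A Q e (cj w E))) => (f : Psi A Q e (cj w E) → F))
      DFunLike.coe_injective
  exact Subgroup.card_le_card_group _

/-- `|W : C_W(A₀)| ≥ |Φ| |Ψ|` -/
theorem card_W {w : G} (hw : w ∈ P) (hwe : ∀ x, w * e x * w⁻¹ = e ![x 1, x 0]) :
    Nat.card (h.homD w hw).range * Nat.card (Psi A Q e (cj w E)) ≤ cidx (WW A (cj w E)) (A ⊓ Q) := by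
  rw [h.cidx_eq (h.WW_le hw), ← Nat.card_prod]
  have key : ∀ p : (h.homD w hw).range × Psi A Q e (cj w E),
      Multiplicative.ofAdd (fun a : (A ⊓ Q : Subgroup G) => ![(p.2 : (A ⊓ Q : Subgroup G) → F) a, Multiplicative.toAdd (p.1 : Multiplicative ((A ⊓ Q : Subgroup G) → F)) a]) ∈
        (h.hom (h.WW_le hw)).range := by
    rintro ⟨⟨_, d, rfl⟩, ψ, hψ⟩
    obtain ⟨u, hu, huψ⟩ := h.Psi_real hw hwe hψ
    refine ⟨⟨u * d, mul_mem hu (h.D_le_WW d.2)⟩, ?_⟩
    rw [h.hom_apply]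
    refine congrArg Multiplicative.ofAdd ?_
    funext a
    show ff A Q e (u * d) a = _
    rw [h.ff_mul (h.WW_le hw hu) (h.E_le hw d.2), Pi.add_apply, huψ]
    refine ext2 ?_ ?_
    · show ψ a + ff A Q e d a 0 = ψ a
      rw [h.ff_zero hw hwe d.2, add_zero]
    · show 0 + ff A Q e d a 1 = ff A Q e d a 1
      rw [zero_add]
  refine Nat.card_le_card_of_injective (fun p => (⟨_, key p⟩ : (h.hom (h.WW_le hw)).range)) ?_
  rintro ⟨⟨φ, hφ⟩, ψ, hψ⟩ ⟨⟨φ', hφ'⟩, ψ', hψ'⟩ heq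
  have h1 := congrArg (fun x => Multiplicative.toAdd (x : Multiplicative ((A ⊓ Q : Subgroup G) → Fin 2 → F)))
    (congrArg Subtype.val heq)
  have h2 : ∀ a, ![ψ a, Multiplicative.toAdd φ a] = ![ψ' a, Multiplicative.toAdd φ' a] := fun a => congrFun h1 a
  have h3 : ψ = ψ' := funext fun a => congrFun (h2 a) 0
  have h4 : φ = φ' := congrArg Multiplicative.ofAdd (funext fun a => congrFun (h2 a) 1)
  subst h3 h4
  rfl

/-- `A₀ ≰ C(D)` ⟹ `|W : C_W(A₀)| > |A₀ : C_{A₀}(D)|`. -/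
theorem lt_W {w : G} (hw : w ∈ P) (hwe : ∀ x, w * e x * w⁻¹ = e ![x 1, x 0])
    (hn : ¬ A ⊓ Q ≤ centralizer ((cj w E : Subgroup G) : Set G)) :
    (centralizer ((cj w E : Subgroup G) : Set G)).relIndex (A ⊓ Q) < cidx (WW A (cj w E)) (A ⊓ Q) := by
  refine lt_of_lt_of_le ?_ (h.card_W hw hwe)
  have h1 := h.card_psi_le hw hwe
  have hpos : 0 < (centralizer ((cj w E : Subgroup G) : Set G)).relIndex (A ⊓ Q) := Nat.pos_of_ne_zero (rel_ne _ _)
  have h2 : 1 < Nat.card (h.homD w hw).range := by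
    have : Nontrivial (h.homD w hw).range := by
      rw [Subgroup.nontrivial_iff_ne_bot]
      intro hb
      apply hn
      intro a ha
      rw [mem_centralizer_iff]
      intro d hd
      have h3 : h.homD w hw ⟨d, hd⟩ ∈ (h.homD w hw).range := ⟨_, rfl⟩
      rw [hb, mem_bot] at h3
      have h4 : ff A Q e d ⟨a, ha⟩ 1 = 0 := congrFun (congrArg Multiplicative.toAdd h3) ⟨a, ha⟩
      have h5 : ff A Q e d ⟨a, ha⟩ = 0 := ext2 (h.ff_zero hw hwe hd _) h4
      have h6 := h.e_co (h.ff_mem (h.E_le hw hd) ⟨a, ha⟩)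
      have h7 : a * d * a⁻¹ * d⁻¹ = 1 := by
        have h8 : e (ff A Q e d ⟨a, ha⟩) = a * d * a⁻¹ * d⁻¹ := h6
        rw [← h8, h5]
        exact h.e_zero
      rw [mul_inv_eq_one, mul_inv_eq_iff_eq_mul] at h7
      exact h7.symm
    exact Finite.one_lt_card
  calc (centralizer ((cj w E : Subgroup G) : Set G)).relIndex (A ⊓ Q)
      < Nat.card (h.homD w hw).range * (centralizer ((cj w E : Subgroup G) : Set G)).relIndex (A ⊓ Q) := by nlinarith
    _ ≤ _ := Nat.mul_le_mul_left _ h1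

/-! ### The counting -/

/-- `R = {e (a, 0)}` -/
theorem mem_of_comm {v : Fin 2 → F} (hc : ∀ a ∈ A, a * e v = e v * a) : v 1 = 0 := by
  obtain ⟨a, ha, hae⟩ := h.full 1
  have h1 := hae v
  rw [hc a ha, mul_inv_cancel_right] at h1
  have h2 := congrFun (h.e_inj h1) 0
  have h3 : v 0 = v 0 + 1 * v 1 := h2
  rw [one_mul] at h3
  exact left_eq_add.1 h3

theorem cidx_V_A : Nat.card F ≤ cidx V A := by
  -- the cosets of `e (0, b)` are different
  have h1 : ∀ b : F, e ![0, b] ∈ V := fun b => h.e_mem _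
  rw [cidx, relIndex]
  have hfin : Finite (V ⧸ (centralizer (A : Set G)).subgroupOf V) := inferInstance
  refine Nat.card_le_card_of_injective (fun b : F => (QuotientGroup.mk (⟨e ![0, b], h1 b⟩ : V) : V ⧸ (centralizer (A : Set G)).subgroupOf V)) ?_
  intro b b' hbb
  have h2 := QuotientGroup.eq.1 hbb
  rw [mem_subgroupOf] at h2
  have h3 : (e ![0, b])⁻¹ * e ![0, b'] = e ![0, b + b'] := by
    rw [inv_eq_of_mul_eq_one_left (h.Vsq (h1 b)), ← h.e_add]
    congr 1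
    exact ext2 (add_zero _) rfl
  have h4 : e ![0, b + b'] ∈ centralizer (A : Set G) := by rw [← h3]; exact h2
  have h5 := h.mem_of_comm (v := ![0, b + b']) fun a ha => mem_centralizer_iff.1 h4 a ha
  have h6 : b + b' = 0 := h5
  have hF2 : b' + b' = 0 := by
    have h4 := h.Vsq (h.e_mem ![b', 0])
    rw [← h.e_add, ← h.e_zero] at h4
    have h5 := congrFun (h.e_inj h4) 0
    simpa using h5
  calc b = b + (b' + b') := by rw [hF2, add_zero]
    _ = b + b' + b' := (add_assoc _ _ _).symm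
    _ = b' := by rw [h6, zero_add]

/-- `|A : A ∩ Q| ≤ q` -/
theorem rel_A : (A ⊓ Q).relIndex A ≤ Nat.card F := by
  classical
  let τ : A → F := fun a => (h.act a a.2).choose
  have hτ : ∀ a : A, ∀ x, (a : G) * e x * (a : G)⁻¹ = e ![x 0 + τ a * x 1, x 1] := fun a => (h.act a a.2).choose_spec
  rw [relIndex]
  refine Nat.card_le_card_of_injective (fun c : A ⧸ (A ⊓ Q).subgroupOf A => τ c.out) ?_
  intro c c' hcc
  have h1 : (c.out)⁻¹ * c'.out ∈ (A ⊓ Q).subgroupOf A := by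
    rw [mem_subgroupOf]
    refine ⟨((c.out)⁻¹ * c'.out).2, h.AQ ⟨((c.out)⁻¹ * c'.out).2, mem_centralizer_iff.2 fun v hv => ?_⟩⟩
    obtain ⟨x, rfl⟩ := (h.mem_iff v).1 hv
    have h2 := hτ c.out x
    have h3 := hτ c'.out x
    have hcc' : τ c.out = τ c'.out := hcc
    rw [hcc', ← h3] at h2
    show e x * ((c.out : G)⁻¹ * (c'.out : G)) = (c.out : G)⁻¹ * (c'.out : G) * e x
    calc e x * ((c.out : G)⁻¹ * (c'.out : G)) = (c.out : G)⁻¹ * ((c.out : G) * e x * (c.out : G)⁻¹) * (c'.out : G) := by group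
      _ = (c.out : G)⁻¹ * ((c'.out : G) * e x * (c'.out : G)⁻¹) * (c'.out : G) := by rw [h2]
      _ = _ := by group
  have h2 : (QuotientGroup.mk c.out : A ⧸ (A ⊓ Q).subgroupOf A) = QuotientGroup.mk c'.out := QuotientGroup.eq.2 h1
  rwa [QuotientGroup.out_eq', QuotientGroup.out_eq'] at h2

/-- chain: `|K : C_K(U)| ≤ |U : C_U(K)|` -/
theorem chain {K : Subgroup G} (hK : K ≤ A ⊓ Q) : cidx K (UU P V E) ≤ cidx (UU P V E) K := by
  have h1 := lemma1_pow (𝓛 := Fam P V E) (E := K) (a := 1) (b := 1) (by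
    rintro L (rfl | ⟨g, hg, rfl⟩) B hB
    · rw [pow_one, pow_one, cidx_eq_one_iff.2 (((hB.trans hK).trans inf_le_right).trans h.QV)]
      exact cidx_pos _ _
    · rw [pow_one, pow_one]
      exact h.no B (hB.trans hK) g hg)
  rwa [pow_one, pow_one] at h1

/-- the first half: `A ∩ Q` centralises `D = E^w` and `C_U(A ∩ Q) = V C_U(A)`. -/
theorem main {w : G} (hw : w ∈ P) (hwe : ∀ x, w * e x * w⁻¹ = e ![x 1, x 0]) :
    ∀ d ∈ cj w E, ∃ v ∈ V, v⁻¹ * d ∈ centralizer (A : Set G) := by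
  set U := UU P V E with hU
  set A0 := A ⊓ Q with hA0
  have hq : 0 < Nat.card F := Nat.card_pos
  -- `|A : C_A(U)| = |A : A₀| |A₀ : C_{A₀}(U)|`
  have h1 : cidx A U ≤ Nat.card F * cidx A0 U := by
    rw [cidx_chain (A := A) (B := U) (E := A0) inf_le_left
      (le_inf inf_le_left (le_trans (inf_le_inf_left _ (centralizer_le h.V_le)) h.AQ))]
    exact Nat.mul_le_mul_right _ h.rel_A
  -- `|U : C_U(A)| = |U : C_U(A₀)| |C_U(A₀) : C_U(A)|`
  have h2 := cidx_chain_right U (B := A) (E := A0) inf_le_left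
  have hV0 : V ≤ U ⊓ centralizer (A0 : Set G) := le_inf h.V_le (by
    rw [Subgroup.le_centralizer_iff]
    exact inf_le_right.trans h.QV)
  have h3 : Nat.card F ≤ (U ⊓ centralizer (A : Set G)).relIndex (U ⊓ centralizer (A0 : Set G)) := by
    refine h.cidx_V_A.trans ?_
    have h4 : cidx V A = (U ⊓ centralizer (A : Set G)).relIndex V := by
      rw [cidx, ← Subgroup.inf_relIndex_right (centralizer (A : Set G)) V,
        ← Subgroup.inf_relIndex_right (U ⊓ centralizer (A : Set G)) V]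
      congr 1
      apply le_antisymm
      · exact le_inf (le_inf (inf_le_right.trans h.V_le) inf_le_left) inf_le_right
      · exact le_inf (inf_le_left.trans inf_le_right) inf_le_right
    rw [h4]
    exact Subgroup.relIndex_le_of_le_right hV0 (rel_ne _ _)
  have h4 := h.off
  rw [← hU] at h4
  -- `|U : C_U(A₀)| ≤ |A₀ : C_{A₀}(U)|`
  have h5 : cidx U A0 ≤ cidx A0 U := by
    have h6 : cidx U A0 * Nat.card F ≤ cidx A0 U * Nat.card F := by
      calc cidx U A0 * Nat.card F ≤ cidx U A := by rw [h2]; exact Nat.mul_le_mul_left _ h3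
        _ ≤ cidx A U := h4
        _ ≤ Nat.card F * cidx A0 U := h1
        _ = _ := mul_comm _ _
    exact Nat.le_of_mul_le_mul_right h6 hq
  have h6 := h.chain (K := A0) le_rfl
  have h7 : cidx U A0 = cidx A0 U := le_antisymm h5 h6
  -- `A₀` centralises `D`
  have hD : A0 ≤ centralizer ((cj w E : Subgroup G) : Set G) := by
    by_contra hn
    set K1 := A0 ⊓ centralizer ((cj w E : Subgroup G) : Set G) with hK1
    have hDU : cj w E ≤ U := h.E_le hw
    have e1 : cidx A0 U = K1.relIndex A0 * cidx K1 U := cidx_chain inf_le_left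
      (inf_le_inf_left _ (centralizer_le hDU))
    have e2 := cidx_chain_right U (B := A0) (E := K1) inf_le_left
    have e3 := h.chain (K := K1) inf_le_left
    have e4 := h.lt_W hw hwe hn
    have hWU : WW A (cj w E) ≤ U := h.WW_le hw
    have hWK : WW A (cj w E) ≤ U ⊓ centralizer (K1 : Set G) := by
      refine le_inf hWU (sSup_le ?_)
      rintro L ⟨a, ha, rfl⟩ x hx
      rw [mem_centralizer_iff]
      intro k hk
      have h8 := mem_centralizer_iff.1 hk.2 _ (mem_cj.1 hx)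
      have hxX : a⁻¹ * x * a ∈ X := h.Eg_X hw (mem_cj.1 hx)
      have h9 := h.swapA hk.1.1 ha hxX
      have e5 : a * (a⁻¹ * x * a) * a⁻¹ = x := by group
      rw [e5] at h9
      have h10 : k * (a⁻¹ * x * a) * k⁻¹ = a⁻¹ * x * a := by rw [← h8, mul_inv_cancel_right]
      rw [h10, e5] at h9
      calc k * x = k * x * k⁻¹ * k := by group
        _ = x * k := by rw [h9]
    have e5 : cidx (WW A (cj w E)) A0 ≤ (U ⊓ centralizer (A0 : Set G)).relIndex (U ⊓ centralizer (K1 : Set G)) := by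
      have e6 : cidx (WW A (cj w E)) A0 = (U ⊓ centralizer (A0 : Set G)).relIndex (WW A (cj w E)) := by
        rw [cidx, ← Subgroup.inf_relIndex_right (centralizer (A0 : Set G)) (WW A (cj w E)),
          ← Subgroup.inf_relIndex_right (U ⊓ centralizer (A0 : Set G)) (WW A (cj w E))]
        congr 1
        apply le_antisymm
        · exact le_inf (le_inf (inf_le_right.trans hWU) inf_le_left) inf_le_right
        · exact le_inf (inf_le_left.trans inf_le_right) inf_le_right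
      rw [e6]
      exact Subgroup.relIndex_le_of_le_right hWK (rel_ne _ _)
    have e7 : (centralizer ((cj w E : Subgroup G) : Set G)).relIndex A0 = K1.relIndex A0 := by
      rw [hK1, inf_comm, Subgroup.inf_relIndex_right]
    rw [e7] at e4
    have e8 := lt_of_lt_of_le e4 e5
    have e9 : 0 < cidx K1 U := cidx_pos _ _
    have e10 : cidx A0 U < cidx U A0 := by
      rw [e1, e2, mul_comm]
      calc cidx K1 U * K1.relIndex A0 < cidx K1 U * _ := Nat.mul_lt_mul_of_pos_left e8 e9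
        _ ≤ cidx U K1 * _ := Nat.mul_le_mul_right _ e3
    exact absurd h7 e10.ne'
  -- `C_U(A₀) = V C_U(A)`
  have h8 : (U ⊓ centralizer (A : Set G)).relIndex (U ⊓ centralizer (A0 : Set G)) ≤ Nat.card F := by
    have h9 : cidx U A0 * (U ⊓ centralizer (A : Set G)).relIndex (U ⊓ centralizer (A0 : Set G)) ≤
        cidx U A0 * Nat.card F := by
      rw [← h2]
      calc cidx U A ≤ cidx A U := h4
        _ ≤ Nat.card F * cidx A0 U := h1
        _ = _ := by rw [h7, mul_comm]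
    exact Nat.le_of_mul_le_mul_left h9 (cidx_pos _ _)
  -- `|V : C_V(A)| = q` and `C_U(A₀) = V C_U(A)`
  set CA := U ⊓ centralizer (A : Set G) with hCA
  set C0 := U ⊓ centralizer (A0 : Set G) with hC0
  have hsup : CA ⊔ V ≤ C0 := sup_le (inf_le_inf_left _ (centralizer_le inf_le_left)) hV0
  have hVn : V ≤ normalizer (CA : Set G) := by
    refine le_trans ?_ (centralizer_le_normalizer _)
    intro v hv
    rw [mem_centralizer_iff]
    intro c hc
    exact h.U_comm' hc.1 (h.V_le hv)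
  have h10 : Nat.card F ≤ CA.relIndex (CA ⊔ V) := by
    refine h.cidx_V_A.trans ?_
    have h11 : cidx V A = CA.relIndex V := by
      rw [cidx, ← Subgroup.inf_relIndex_right (centralizer (A : Set G)) V,
        ← Subgroup.inf_relIndex_right CA V]
      congr 1
      apply le_antisymm
      · exact le_inf (le_inf (inf_le_right.trans h.V_le) inf_le_left) inf_le_right
      · exact le_inf (inf_le_left.trans inf_le_right) inf_le_right
    rw [h11]
    exact Subgroup.relIndex_le_of_le_right le_sup_right (rel_ne _ _)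
  have h11 : CA ⊔ V = C0 := by
    apply Subgroup.eq_of_le_of_card_ge hsup
    have e1 := card_rel (le_sup_left : CA ≤ CA ⊔ V)
    have e2 := card_rel (le_sup_left.trans hsup : CA ≤ C0)
    rw [← e1, ← e2]
    exact Nat.mul_le_mul_left _ (h8.trans h10)
  intro d hd
  have hdC : d ∈ C0 := ⟨h.E_le hw hd, (Subgroup.le_centralizer_iff.1 hD) hd⟩
  rw [← h11, ← SetLike.mem_coe, sup_comm, coe_mul_of_left_le_normalizer_right V CA hVn] at hdC
  obtain ⟨v, hv, c, hc, rfl⟩ := hdC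
  refine ⟨v, hv, ?_⟩
  show v⁻¹ * (v * c) ∈ _
  rw [inv_mul_cancel_left]
  exact hc.2

/-- **LEMMA U.** -/
theorem lemU : ∀ x ∈ E, ∀ t ∈ Q, t * x = x * t := by
  obtain ⟨w, hw, hwe⟩ := h.swap
  have hA : A ≤ normalizer (Q : Set G) := h.AP.trans h.Qn
  have key : ∀ d ∈ cj w E, ∀ t ∈ Q, t * d = d * t := by
    intro d hd t ht
    obtain ⟨v, hv, hvd⟩ := h.main hw hwe d hd
    obtain ⟨α, hα, hαt⟩ := h.full 1
    -- `[α, d] ∈ V`, more precisely `α d α⁻¹ = r d` with `r ∈ V`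
    have e1 : α * (v⁻¹ * d) * α⁻¹ = v⁻¹ * d := by
      rw [mem_centralizer_iff.1 hvd α hα, mul_inv_cancel_right]
    have hαv : α * v * α⁻¹ ∈ V := (mem_normalizer_iff.1 (h.Vn (h.AP hα)) v).1 hv
    set r := α * v * α⁻¹ * v⁻¹ with hr
    have hrV : r ∈ V := mul_mem hαv (inv_mem hv)
    have e2 : α * d * α⁻¹ = r * d := by
      calc α * d * α⁻¹ = (α * v * α⁻¹) * (α * (v⁻¹ * d) * α⁻¹) := by group
        _ = (α * v * α⁻¹) * (v⁻¹ * d) := by rw [e1]
        _ = r * d := by rw [hr]; group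
    set t' := α * t * α⁻¹ with ht'
    have htQ : t' ∈ Q := (mem_normalizer_iff.1 (hA hα) t).1 ht
    obtain ⟨b, hb⟩ := h.D_co hw hwe hd ht
    obtain ⟨b', hb'⟩ := h.D_co hw hwe hd htQ
    -- `[t', r d] = [t', d]`
    have e3 : t' * (r * d) * t'⁻¹ * (r * d)⁻¹ = t' * d * t'⁻¹ * d⁻¹ := by
      have f1 := mem_centralizer_iff.1 (h.QV htQ) r hrV
      have hc : t' * d * t'⁻¹ * d⁻¹ ∈ V := by rw [hb']; exact h.e_mem _
      have f2 : r * (t' * d * t'⁻¹ * d⁻¹) = t' * d * t'⁻¹ * d⁻¹ * r :=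
        (mem_centralizer_iff.1 (h.QV (h.VQ hc)) r hrV)
      calc t' * (r * d) * t'⁻¹ * (r * d)⁻¹ = (t' * r) * d * t'⁻¹ * d⁻¹ * r⁻¹ := by group
        _ = (r * t') * d * t'⁻¹ * d⁻¹ * r⁻¹ := by rw [f1]
        _ = r * (t' * d * t'⁻¹ * d⁻¹) * r⁻¹ := by group
        _ = (t' * d * t'⁻¹ * d⁻¹) * r * r⁻¹ := by rw [f2]
        _ = _ := by group
    have e4 : α * (t * d * t⁻¹ * d⁻¹) * α⁻¹ = t' * d * t'⁻¹ * d⁻¹ := by
      rw [← e3, ← e2, ht']
      group
    rw [hb, hb', hαt] at e4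
    have e5 := congrFun (h.e_inj e4) 0
    have e6 : 0 + 1 * b = 0 := e5
    rw [zero_add, one_mul] at e6
    rw [e6] at hb
    have e7 : e ![0, 0] = 1 := by
      rw [← h.e_zero]
      congr 1
      exact ext2 rfl rfl
    rw [e7, mul_inv_eq_one, mul_inv_eq_iff_eq_mul] at hb
    exact hb
  intro x hx t ht
  have h1 := key (w * x * w⁻¹) (conj_mem_cj hx) (w * t * w⁻¹) ((mem_normalizer_iff.1 (h.Qn hw) t).1 ht)
  have h2 := congrArg (fun s => w⁻¹ * s * w) h1
  have e1 : w⁻¹ * (w * t * w⁻¹ * (w * x * w⁻¹)) * w = t * x := by group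
  have e2 : w⁻¹ * (w * x * w⁻¹ * (w * t * w⁻¹)) * w = x * t := by group
  simp only [e1, e2] at h2
  exact h2

end HypX

end Cfsg.Agent.Omega.NO3S.Fld.LemU

end

section


/-!
# NO-3S, natural lines, `q ≥ 4`: the point stabiliser acts linearly on `V / Z` (bb OMEGA #15867, (LIN))

* `PL.lin'` : `g ∈ C_G(Z) ∩ N_G(V)` centralises one `v ∈ V - Z` modulo `Z`: then `s g ∈ C_G(V)` for some `s ∈ S`;
* `PL.lin` : so `[g, V] ≤ Z`.
-/

set_option autoImplicit false

namespace Cfsg.Agent.Omega.NO3S.PT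

open Subgroup Cfsg.Agent.Omega.NoFF.Basic
open scoped Pointwise

variable {G : Type*} [Group G]

namespace PL

variable [Finite G] {S : Sylow 2 G} {P V Z : Subgroup G} (h : PL S P V Z)
include h

/-- an element centralising `Z` and one element of `V - Z` centralises `V` -/
theorem mem_centralizer_of_fix {k v : G} (hk : ∀ z ∈ Z, k * z = z * k) (hv : v ∈ V) (hvZ : v ∉ Z)
    (hkv : k * v = v * k) : k ∈ centralizer (V : Set G) := by
  -- `k` normalises every point `X ≠ Z` of `V`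
  have hpt : ∀ X, IsCj Z X → X ≤ V → X ≠ Z → k ∈ normalizer (X : Set G) := by
    intro X hX hXV hXZ
    obtain ⟨z, hz, x, hx, hzx⟩ := h.exists_mul h.isCj_self h.ZV hX hXV hXZ.symm hv
    have hx1 : x ≠ 1 := by
      rintro rfl
      exact hvZ (by rw [hzx, mul_one]; exact hz)
    obtain ⟨g, rfl⟩ := hX
    refine (h.conj g).ti x hx hx1 k ?_
    have e : x = z⁻¹ * v := by rw [hzx]; group
    rw [e, ← mul_assoc, hk _ (Z.inv_mem hz), mul_assoc, hkv, mul_assoc]
  have key : ∀ u ∈ V, u ∉ Z → k * u = u * k := by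
    intro u hu huZ
    have hu1 : u ≠ 1 := fun e => huZ (by rw [e]; exact one_mem _)
    obtain ⟨X, hX, hXV, huX⟩ := h.exists_point hu hu1
    have hXZ : X ≠ Z := fun e => huZ (e ▸ huX)
    obtain ⟨z, hz, hz1⟩ := h.pt_ne_bot h.isCj_self
    have hzu : z * u ∉ Z := fun e => huZ ((Z.mul_mem_cancel_left hz).1 e)
    have hzu1 : z * u ≠ 1 := fun e => hzu (by rw [e]; exact one_mem _)
    obtain ⟨Y, hY, hYV, huY⟩ := h.exists_point (V.mul_mem (h.ZV hz) hu) hzu1
    have hYZ : Y ≠ Z := fun e => hzu (e ▸ huY)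
    have hYX : Y ≠ X := by
      rintro rfl
      have hzY : z ∈ Y := (Y.mul_mem_cancel_right huX).1 huY
      exact hYZ (h.pts_eq hY h.isCj_self hzY hz hz1)
    have h1 : k * u * k⁻¹ * u⁻¹ ∈ X :=
      X.mul_mem ((mem_normalizer_iff.1 (hpt X hX hXV hXZ) u).1 huX) (X.inv_mem huX)
    have h2 : k * (z * u) * k⁻¹ * (z * u)⁻¹ ∈ Y :=
      Y.mul_mem ((mem_normalizer_iff.1 (hpt Y hY hYV hYZ) _).1 huY) (Y.inv_mem huY)
    have h3 : k * (z * u) * k⁻¹ * (z * u)⁻¹ = k * u * k⁻¹ * u⁻¹ := by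
      have hkuV : k * u * k⁻¹ * u⁻¹ ∈ V := hXV h1
      calc k * (z * u) * k⁻¹ * (z * u)⁻¹ = (k * z) * u * k⁻¹ * (u⁻¹ * z⁻¹) := by group
        _ = z * (k * u * k⁻¹ * u⁻¹) * z⁻¹ := by rw [hk z hz]; group
        _ = k * u * k⁻¹ * u⁻¹ := by rw [h.Vcomm (h.ZV hz) hkuV, mul_inv_cancel_right]
    rw [h3] at h2
    have h4 : k * u * k⁻¹ * u⁻¹ ∈ Y ⊓ X := ⟨h2, h1⟩
    rw [h.pts_inf hY hX hYX, mem_bot, mul_inv_eq_one, mul_inv_eq_iff_eq_mul] at h4
    exact h4
  rw [mem_centralizer_iff]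
  intro u hu
  by_cases huZ : u ∈ Z
  · exact (hk u huZ).symm
  · exact (key u hu huZ).symm

/-- **(LIN)** -/
theorem lin' {g v : G} (hg : ∀ z ∈ Z, g * z = z * g) (hv : v ∈ V) (hvZ : v ∉ Z)
    (hgv : g * v * g⁻¹ * v⁻¹ ∈ Z) : ∃ s ∈ (S : Subgroup G), s * g ∈ centralizer (V : Set G) := by
  set z := g * v * g⁻¹ * v⁻¹ with hz
  obtain ⟨s, hs, hsv⟩ := h.full v hv hvZ z⁻¹ (Z.inv_mem hgv)
  refine ⟨s, hs, h.mem_centralizer_of_fix (v := v) ?_ hv hvZ ?_⟩
  · intro w hw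
    rw [mul_assoc, hg w hw, ← mul_assoc, h.cen w hw s hs, mul_assoc]
  · have e1 : g * v * g⁻¹ = z * v := by rw [hz]; group
    have e2 : s * v * s⁻¹ = z⁻¹ * v := by rw [← hsv]; group
    have e3 : s * g * v * (s * g)⁻¹ = v := by
      calc s * g * v * (s * g)⁻¹ = s * (g * v * g⁻¹) * s⁻¹ := by group
        _ = (s * z) * v * s⁻¹ := by rw [e1]; group
        _ = z * (s * v * s⁻¹) := by rw [h.cen z hgv s hs]; group
        _ = v := by rw [e2]; group
    rwa [mul_inv_eq_iff_eq_mul] at e3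

/-- **(LIN)** -/
theorem lin {g v : G} (hg : ∀ z ∈ Z, g * z = z * g) (hv : v ∈ V) (hvZ : v ∉ Z)
    (hgv : g * v * g⁻¹ * v⁻¹ ∈ Z) : ∀ u ∈ V, g * u * g⁻¹ * u⁻¹ ∈ Z := by
  obtain ⟨s, hs, hc⟩ := h.lin' hg hv hvZ hgv
  intro u hu
  have h1 : s * g * u * (s * g)⁻¹ = u := by
    rw [mul_inv_eq_iff_eq_mul]; exact (mem_centralizer_iff.1 hc u hu).symm
  have h2 : g * u * g⁻¹ = s⁻¹ * u * s := by
    calc g * u * g⁻¹ = s⁻¹ * (s * g * u * (s * g)⁻¹) * s := by group
      _ = s⁻¹ * u * s := by rw [h1]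
  rw [h2]
  have h3 := h.act s⁻¹ (inv_mem hs) u hu
  rwa [inv_inv] at h3

/-- (LIN) for normalisers: `g ∈ C_G(Z)` and `[g, v] ∈ Z` for one `v ∈ V - Z` imply `g ∈ N_G(V)`. -/
theorem mem_normalizer_of_lin {g v : G} (hg : ∀ z ∈ Z, g * z = z * g) (hv : v ∈ V) (hvZ : v ∉ Z)
    (hgv : g * v * g⁻¹ * v⁻¹ ∈ Z) : g ∈ normalizer (V : Set G) := by
  obtain ⟨s, hs, hc⟩ := h.lin' hg hv hvZ hgv
  have h1 : g = s⁻¹ * (s * g) := by group
  rw [h1]
  exact mul_mem (h.PN (h.SP (inv_mem hs))) (centralizer_le_normalizer _ hc)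

end PL

end Cfsg.Agent.Omega.NO3S.PT

end
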