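import Cfsg.Agent.Mrg.Omega.VP
import Cfsg.Agent.ZN.ChoiceSit


/-!
# LEMMA W (helper265, #15073)

In the NO-3 geometry (`NoFF/Lines.lean`), `Q_x = O₂(C_x)`:

* `Geo.W_le_o2` : `W ≤ O₂(C)`;
* `Geo.lemmaW` : `W_y ≤ Q_x` if `d(x, y) = k` and all pairs at distance `≤ k` commute;
* `Geo.lemmaW_crit` : for a critical pair `(x, y)` at distance `n + 1` and the first point `p` of a path from
  `x` to `y`: `W_y ≤ Q_p`;
* `Geo.not_both` : for a critical pair not both `W_x ≤ Q_y` and `W_y ≤ Q_x`.
-/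

set_option autoImplicit false
set_option linter.unusedSectionVars false

namespace Cfsg.Agent.Omega.NoFF.Lines

open Subgroup Cfsg.Agent.Omega.NoFF Cfsg.Agent.Omega.NoFF.Basic Cfsg.Agent.ZN
open Cfsg.Agent.MinSimple.VModule (le_o2 le_normalizer_o2)
open scoped Pointwise

variable {G : Type*} [Group G] [Finite G] {S Z C : Subgroup G} {F : Set (Subgroup G)}

/-- `d(x, y) = 1`: `Z_y ≤ W_x`. -/
theorem Z_le_of_one (hCZ : C ≤ normalizer (Z : Set G)) {x y : G} (h : Path C F 1 x y) :
    MulAut.conj y • Z ≤ MulAut.conj x • W Z C F := by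
  rcases h with _ | @⟨_, _, u, p, c, P, hu, hP, hp, hc⟩
  rcases hu with @⟨_, c0, hc0⟩
  rw [← conj_conj (x * c0 * p) c, conj_eq (hCZ hc)]
  refine (conj_Z_le hp).trans ?_
  exact conj_line_le hP x hc0

namespace Geo

variable (D : Geo S Z C F)
include D

/-- `W ≤ O₂(C)`. -/
theorem W_le_o2 : W Z C F ≤ o2 C := by
  have hSC : S ≤ C := D.cent.trans D.cen
  have hWC : W Z C F ≤ C := by
    refine W_le fun P hP c hc => ?_
    have h1 := conj_le_iff (g := c) |>.2 ((D.low P hP 1 C.one_mem))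
    rw [map_one, one_smul] at h1
    refine h1.trans ?_
    have h2 := conj_le_iff (g := c) |>.2 hSC
    rwa [conj_self hc] at h2
  refine le_o2 hWC ?_ C_le_normalizer_W
  intro w
  exact ⟨1, Subtype.ext (by simpa using D.W_sq w w.2)⟩

/-- `C_G(W_x) ≤ C_y` if `Z_y ≤ W_x`. -/
theorem centralizer_W_le {x y : G} (h : MulAut.conj y • Z ≤ MulAut.conj x • W Z C F) :
    centralizer ((MulAut.conj x • W Z C F : Subgroup G) : Set G) ≤ MulAut.conj y • C := by
  refine (centralizer_le h).trans fun a ha => ?_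
  rw [mem_conj]
  apply D.cen
  rw [mem_centralizer_iff]
  intro z hz
  have h1 : y * z * y⁻¹ ∈ MulAut.conj y • Z := by
    rw [mem_conj]
    simpa [mul_assoc] using hz
  have h2 := congrArg (fun t => y⁻¹ * t * y) (mem_centralizer_iff.1 ha _ h1)
  simpa [mul_assoc] using h2

/-- `(*)`: `d(x, p) = 1`, `U ≤ Q_p` centralises `W_x`: `U ≤ Q_x`. -/
theorem le_o2_of_one (hF : F.Nonempty) {x p : G} (h : Path C F 1 x p) {U : Subgroup G}
    (h1 : U ≤ MulAut.conj p • o2 C) (h2 : U ≤ centralizer ((MulAut.conj x • W Z C F : Subgroup G) : Set G)) :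
    U ≤ MulAut.conj x • o2 C := by
  set K := centralizer ((MulAut.conj x • W Z C F : Subgroup G) : Set G) with hK
  have hKp : K ≤ MulAut.conj p • C := D.centralizer_W_le (Z_le_of_one D.CZ h)
  have hKx : K ≤ MulAut.conj x • C := D.centralizer_W_le (conj_le_iff.2 (Geo.Z_le_W hF))
  have hnp : MulAut.conj p • C ≤ normalizer ((MulAut.conj p • o2 C : Subgroup G) : Set G) := by
    rw [Main.normalizer_conj]
    exact conj_le_iff.2 (le_normalizer_o2 C)
  have hN : K ⊓ MulAut.conj p • o2 C ≤ o2 K := by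
    refine le_o2 inf_le_left ?_ ?_
    · refine IsPGroup.to_le ?_ (inf_le_right : K ⊓ MulAut.conj p • o2 C ≤ _)
      exact (MinSimple.CosetFam.o2_isPGroup C).map _
    · intro k hk
      rw [mem_normalizer_iff]
      intro y
      have e := mem_normalizer_iff.1 (hnp (hKp hk)) y
      constructor
      · rintro ⟨hy1, hy2⟩
        exact ⟨K.mul_mem (K.mul_mem hk hy1) (K.inv_mem hk), e.1 hy2⟩
      · rintro ⟨hy1, hy2⟩
        refine ⟨?_, e.2 hy2⟩
        have := K.mul_mem (K.mul_mem (K.inv_mem hk) hy1) hk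
        simpa [mul_assoc] using this
  have hxK : MulAut.conj x • C ≤ normalizer (K : Set G) :=
    (normalizer_W x).trans (NoFF.LinesPlug.normalizer_le_normalizer_centralizer' _)
  have hx2 : o2 K ≤ MulAut.conj x • o2 C := by
    rw [← MinSimple.CosetFam.o2_conj]
    exact le_o2 ((MinSimple.CosetFam.o2_le_self K).trans hKx) (MinSimple.CosetFam.o2_isPGroup K)
      (hxK.trans (Cfsg.Agent.Omega.normalizer_le_normalizer_o2' K))
  exact (le_inf h2 h1).trans (hN.trans hx2)

/-- **LEMMA W**: `d(x, y) = k`, all pairs at distance `≤ k` commute: `W_y ≤ Q_x`. -/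
theorem lemmaW (hF : F.Nonempty) {k : ℕ} {x y : G} (h : Path C F k x y)
    (hmin : ∀ j ≤ k, ∀ a b, Path C F j a b → Com Z C F a b) :
    MulAut.conj y • W Z C F ≤ MulAut.conj x • o2 C := by
  induction k generalizing x with
  | zero =>
    rcases h with @⟨_, c, hc⟩
    rw [W_mul hc]
    exact conj_le_iff.2 D.W_le_o2
  | succ k ih =>
    have h' := h.symm
    rcases h' with _ | @⟨_, _, u, p, c, P, hu, hP, hp, hc⟩
    have h1 : Path C F 1 (u * p * c) u := by
      have := ((Path.refl u (C := C) (F := F)).step hP hp hc).symm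
      simpa using this
    have h2 : MulAut.conj y • W Z C F ≤ MulAut.conj u • o2 C :=
      ih hu.symm fun j hj => hmin j (hj.trans (Nat.le_succ k))
    refine D.le_o2_of_one hF h1 h2 ?_
    exact (hmin (k + 1) le_rfl _ _ h).symm

/-- A critical pair at distance `n + 1`: `W_y ≤ Q_p` for the first point `p` of a path from `x` to `y`. -/
theorem lemmaW_crit (hF : F.Nonempty) {n : ℕ} {x y p : G} (h : Crit Z C F (n + 1) x y) (hp : Path C F n p y) :
    MulAut.conj y • W Z C F ≤ MulAut.conj p • o2 C :=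
  D.lemmaW hF hp fun j hj a b hab => h.min j (Nat.lt_succ_of_le hj) a b hab

end Geo

/-- **A critical pair has not both `W_x ≤ Q_y` and `W_y ≤ Q_x`.** -/
theorem Geo.not_both {S : Sylow 2 G} (D : Geo (S : Subgroup G) Z C F) {n : ℕ} {x y : G} (h : Crit Z C F n x y)
    (h1 : MulAut.conj x • W Z C F ≤ MulAut.conj y • o2 C)
    (h2 : MulAut.conj y • W Z C F ≤ MulAut.conj x • o2 C) : False := by
  have hSC : (S : Subgroup G) ≤ C := D.cent.trans D.cen
  have hsyl : Cfsg.Agent.ZN.ChoiceSit.Syl (S : Subgroup G) C :=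
    ⟨hSC, S.isPGroup', fun _ _ hT hST => S.is_maximal' hT hST⟩
  have hO : ∀ d ∈ C, ∀ P ∈ F, ∀ y : G,
      MulAut.conj y • o2 C ≤ normalizer ((MulAut.conj (y * d) • V Z P : Subgroup G) : Set G) := by
    intro d hd P hP y
    have hSN : (S : Subgroup G) ≤ normalizer (V Z P : Set G) := by
      intro s hs
      have e := conj_V_mul (Z := Z) (P := P) (g := 1) (D.SP P hP hs)
      rw [one_mul, map_one, one_smul] at e
      rw [mem_normalizer_iff]
      intro y
      constructor
      · intro hy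
        rw [← e, mem_conj]
        simpa [mul_assoc] using hy
      · intro hy
        rw [← e, mem_conj] at hy
        simpa [mul_assoc] using hy
    rw [Main.normalizer_conj, ← conj_conj]
    refine conj_le_iff.2 ?_
    rw [← conj_eq (le_normalizer_o2 C hd)]
    exact conj_le_iff.2 ((Cfsg.Agent.ZN.ChoiceSit.o2_le_syl hsyl).trans hSN)
  obtain ⟨P, hP, P', hP', c, hc, d, hd, hne⟩ := exists_lines h.ne
  have : Fact (Nat.Prime 2) := ⟨Nat.prime_two⟩
  exact hne (noff_lines D.toSys hP hP' ((conj_line_le hP x hc).trans (h1.trans (hO d hd P' hP' y)))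
    ((conj_line_le hP' y hd).trans (h2.trans (hO c hc P hP x))))

end Cfsg.Agent.Omega.NoFF.Lines
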